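import Cfsg.Agent.Lib.CyclicTI.Semidirect
import Cfsg.Agent.Lib.Induced.Mackey
import Cfsg.Agent.S1496
import Cfsg.Agent.S1512

/-!
# Irreducible characters of the kernel fixed by the cyclic complement

With `L = K ⋊ W₁`: the characters fixed by a non-trivial element of `W₁` are the `|W₂|`
restrictions of the characters attached to `W`; the others induce irreducibly.
-/

set_option autoImplicit false
set_option linter.style.haveILetI false

namespace Cfsg.Agent.Lib.CyclicTI.IsPLike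

open scoped ComplexConjugate
open Cfsg.Agent.Lib.Induced.Basic Cfsg.Agent.Lib.Characters.Basic

universe u

variable {L : Type u} [Group L] [Fintype L] {K W₁ W₂ : Subgroup L} [hK : K.Normal]
  (h : IsPLike K W₁ W₂)

include h

/-- Off `K` every element is conjugate to one of `W ∖ W₂`. -/
theorem exists_conj_mem {g : L} (hg : g ∉ K) :
    ∃ x : L, ∃ w : ↥(W₁ ⊔ W₂), (w : L) ∉ W₂ ∧ x * g * x⁻¹ = w := by
  obtain ⟨k, hk, v, hv, rfl⟩ : ∃ k ∈ K, ∃ v ∈ W₁, k * v = g :=
    Subgroup.mem_sup_of_normal_left.mp (h.sup_eq ▸ Subgroup.mem_top g)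
  have hv1 : v ≠ 1 := fun e => hg (by rw [e, mul_one]; exact hk)
  obtain ⟨x, hxK, c, hcK, hcv, he⟩ := Cfsg.Agent.S1496.result K v
    (by rw [Subgroup.normalizer_eq_top]; trivial)
    (h.coprime.coprime_dvd_left (Subgroup.orderOf_dvd_natCard _ hv)) k hk
  have hc : c ∈ W₂ := by
    rw [← h.cent v hv hv1]
    exact ⟨hcK, Subgroup.mem_centralizer_singleton_iff.2 hcv⟩
  refine ⟨x, ⟨c * v, (W₁ ⊔ W₂).mul_mem (Subgroup.mem_sup_right hc) (Subgroup.mem_sup_left hv)⟩,
    fun hm => hg ?_, he⟩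
  have hm' : c⁻¹ * (c * v) ∈ K := K.mul_mem (K.inv_mem hcK) (h.le hm)
  rw [inv_mul_cancel_left] at hm'
  exact K.mul_mem hk hm'

/-- The invariant irreducible characters of `K`. -/
theorem exists_invariant :
    ∃ (Q : Type u) (_ : Finite Q) (θ : Q → K → ℂ), Nat.card Q = Nat.card W₂ ∧
      Function.Injective θ ∧ (∀ q, Cfsg.IsIrrCharacter K (θ q)) ∧
      (∀ q (g : L), Clifford.Basic.conjC K g (θ q) = θ q) ∧
      (∀ q, ∃ C : Finset (L → ℂ), C.card = Nat.card W₁ ∧ (∀ μ ∈ C, Cfsg.IsIrrCharacter L μ) ∧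
        Cfsg.indFun K (θ q) = ∑ μ ∈ C, μ) ∧
      ∀ (η : K → ℂ) (x : L), Cfsg.IsIrrCharacter K η → x ∈ W₁ → x ≠ 1 →
        Clifford.Basic.conjC K x η = η → ∃ q, η = θ q := by
  classical
  have hW := h.selfNormalizing
  haveI := finite_hom (G := L) (W₁ := W₁) (W₂ := W₂)
  haveI := Fintype.ofFinite (↥(W₁ ⊔ W₂) →* ℂˣ)
  haveI := Fintype.ofFinite K
  obtain ⟨μ, δ, hinj, hμ, hδ, hdiff, hval, -, -⟩ := h.exists_characters
  set P := Finset.univ.filter fun φ : ↥(W₁ ⊔ W₂) →* ℂˣ => IsP φ with hPdef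
  have hP : ∀ {φ}, φ ∈ P → IsP φ := fun hh => (Finset.mem_filter.1 hh).2
  let Q := {ψ : ↥(W₁ ⊔ W₂) →* ℂˣ // IsQ ψ}
  set θ : Q → K → ℂ := fun q k => μ q.1 k with hθdef
  have hμcl : ∀ ω, Cfsg.IsClassFunction L (μ ω) := fun ω => isClassFunction_irr ⟨μ ω, hμ ω⟩
  have hagree : ∀ (φ ψ : ↥(W₁ ⊔ W₂) →* ℂˣ), IsP φ → ∀ k ∈ K, μ (φ * ψ) k = μ ψ k := by
    intro φ ψ hφ k hk
    obtain ⟨-, e⟩ := hdiff (φ * ψ) ψ (fun w hw => by rw [MonoidHom.mul_apply, hφ w hw, one_mul])
    have h0 : Cfsg.indFun (W₁ ⊔ W₂) (lin (φ * ψ) - lin ψ) k = 0 := by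
      rw [indFun_congr (θ' := 0) (W₁ ⊔ W₂) k ?_, indFun_zero, Pi.zero_apply]
      intro x hx
      have hx2 : x⁻¹ * k * x ∈ W₂ := (h.mem_K_iff ⟨_, hx⟩).1 (by
        simpa using hK.conj_mem k hk x⁻¹)
      simp [lin, hφ ⟨_, hx⟩ hx2]
    rw [e, Pi.smul_apply, Pi.sub_apply, smul_eq_mul, mul_eq_zero] at h0
    refine sub_eq_zero.1 (h0.resolve_left ?_)
    rcases hδ (φ * ψ) with a | a <;> simp [a]
  have hnorm : ∀ (ω : ↥(W₁ ⊔ W₂) →* ℂˣ) (g : L), g ∉ K → μ ω g * conj (μ ω g) = 1 := by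
    intro ω g hg
    obtain ⟨x, w, hw, e⟩ := h.exists_conj_mem hg
    rw [← hμcl ω g x, e, hval ω w hw]
    have hn : ‖(ω w : ℂ)‖ = 1 := Complex.norm_eq_one_of_pow_eq_one
      (n := orderOf w) (by rw [← Units.val_pow_eq_pow_val, ← map_pow, pow_orderOf_eq_one, map_one,
        Units.val_one]) (orderOf_pos w).ne'
    have hsq : (ω w : ℂ) * conj (ω w : ℂ) = 1 := by
      rw [Complex.mul_conj, Complex.normSq_eq_norm_sq, hn]
      norm_num
    rcases hδ ω with a | a <;> simp [a, hsq]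
  have hθirr : ∀ q, Cfsg.IsIrrCharacter K (θ q) := by
    intro q
    refine isIrrCharacter_of_classInner_self
      (isCharacter_comp K.subtype (IsCharacter_of_isIrrCharacter (hμ q.1))) ?_
    have e1 := classInner_self_irr ⟨μ q.1, hμ q.1⟩
    rw [Cfsg.classInner, inv_mul_eq_iff_eq_mul₀ natCard_ne_zero, mul_one] at e1
    simp only at e1
    rw [← Finset.sum_filter_add_sum_filter_not Finset.univ (fun g : L => g ∈ K),
      Finset.sum_congr rfl (fun g hg => hnorm q.1 g (Finset.mem_filter.1 hg).2),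
      Finset.sum_subtype (p := fun g : L => g ∈ K) _ (fun g => by simp) ] at e1
    have hc : ((Finset.univ.filter fun g : L => g ∈ K).card : ℂ) = Nat.card K := by
      rw [Nat.card_eq_fintype_card, Fintype.card_subtype]
    have hc2 : ((Finset.univ.filter fun g : L => g ∈ K).card : ℂ) +
        ((Finset.univ.filter fun g : L => g ∉ K).card : ℂ) = Nat.card L := by
      rw [← Nat.cast_add, Finset.card_filter_add_card_filter_not, Nat.card_eq_fintype_card,
        Finset.card_univ]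
    show Cfsg.classInner (θ q) (θ q) = 1
    rw [Cfsg.classInner, inv_mul_eq_iff_eq_mul₀ (subgroup_card_ne_zero K), mul_one, ← hc]
    simp only [Finset.sum_const, nsmul_eq_mul, mul_one] at e1
    show ∑ k : K, μ q.1 k * conj (μ q.1 k) = _
    linear_combination e1 - hc2
  have hfix : ∀ q (g : L), Clifford.Basic.conjC K g (θ q) = θ q := fun q g =>
    funext fun k => hμcl q.1 k g
  have hindθ : ∀ q, Cfsg.indFun K (θ q) = ∑ φ ∈ P, μ (φ * q.1) := by
    intro q
    funext g
    rw [Finset.sum_apply]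
    by_cases hg : g ∈ K
    · have e : ∀ x : L, Cfsg.extendByZero K (θ q) (x⁻¹ * g * x) = μ q.1 g := fun x => by
        rw [extendByZero_of_mem K _ (by simpa using hK.conj_mem g hg x⁻¹)]
        simpa [hθdef] using hμcl q.1 g x⁻¹
      simp only [Cfsg.indFun, e, Finset.sum_const, Finset.card_univ, nsmul_eq_mul]
      rw [Finset.sum_congr rfl (fun φ hφ => hagree φ q.1 (hP hφ) g hg), Finset.sum_const,
        nsmul_eq_mul, hPdef, card_isP hW, Fintype.card_eq_nat_card, ← K.card_mul_index,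
        h.index_eq, Nat.cast_mul, ← mul_assoc, ← mul_assoc,
        inv_mul_cancel₀ (subgroup_card_ne_zero K), one_mul]
    · rw [indFun_eq_zero_of_not_mem_normal K _ hg]
      obtain ⟨x, w, hw, e⟩ := h.exists_conj_mem hg
      have e' : ∀ φ ∈ P, μ (φ * q.1) g = δ q.1 * (q.1 w : ℂ) * (φ w : ℂ) := fun φ hφ => by
        rw [← hμcl (φ * q.1) g x, e, hval _ w hw, (hdiff (φ * q.1) q.1
          (fun u hu => by rw [MonoidHom.mul_apply, hP hφ u hu, one_mul])).1]
        simp only [MonoidHom.mul_apply, Units.val_mul]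
        ring
      rw [Finset.sum_congr rfl e', ← Finset.mul_sum, hPdef, sum_isP hW w, if_neg hw, mul_zero]
  have hθinj : Function.Injective θ := by
    intro q q' e
    by_contra hne
    have hi : ∀ r : Q, Cfsg.classInner (∑ φ ∈ P, μ (φ * r.1)) (μ q.1) =
        if r = q then 1 else 0 := by
      intro r
      rw [classInner_sum_left]
      have e1 : ∀ φ ∈ P, Cfsg.classInner (μ (φ * r.1)) (μ q.1) =
          if φ = 1 then (if r = q then 1 else 0) else 0 := by
        intro φ hφ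
        rw [Isometry.Inner.classInner_irr_eq (hμ _) (hμ _), ← ite_and]
        refine if_congr ?_ rfl rfl
        rw [hinj.eq_iff, eq_mul_iff' (hP hφ) r.2 q.2, Subtype.ext_iff]
      rw [Finset.sum_congr rfl e1, Finset.sum_ite_eq' P,
        if_pos (Finset.mem_filter.2 ⟨Finset.mem_univ _, isP_one⟩)]
    have h1 := hi q
    rw [← hindθ, e, hindθ, hi q', if_pos rfl, if_neg (Ne.symm hne)] at h1
    exact zero_ne_one h1
  have hQcard : Nat.card Q = Nat.card W₂ := by
    rw [Nat.card_eq_fintype_card, Fintype.card_subtype, card_isQ hW]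
  refine ⟨Q, inferInstance, θ, hQcard, hθinj, hθirr, hfix, fun q => ?_, fun η x hη hx hx1 he => ?_⟩
  · have hinjφ : Function.Injective fun φ : ↥(W₁ ⊔ W₂) →* ℂˣ => μ (φ * q.1) := fun φ φ' e =>
      mul_right_cancel (hinj e)
    refine ⟨P.image fun φ => μ (φ * q.1), ?_, fun m hm => ?_, ?_⟩
    · rw [Finset.card_image_of_injective _ hinjφ, hPdef, card_isP hW]
    · obtain ⟨φ, -, rfl⟩ := Finset.mem_image.1 hm
      exact hμ _
    · rw [hindθ q, Finset.sum_image hinjφ.injOn]
  · by_contra hne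
    push Not at hne
    haveI := Fintype.ofFinite (Cfsg.IrrCharacter K)
    let T := {χ : Cfsg.IrrCharacter K // (χ : K → ℂ) ∘ (MulAut.conjNormal x : MulAut K) = χ}
    have hT : Nat.card T ≤ Nat.card W₂ := by
      refine le_of_eq_of_le (Induced.Mackey.card_fixed_classes_eq
        (MulAut.conjNormal x : MulAut K)).symm ?_
      exact Cfsg.Agent.S1512.result K W₂ x hx1
        (h.coprime.coprime_dvd_left (Subgroup.orderOf_dvd_natCard _ hx))
        fun y hy hy1 => h.cent y ((Subgroup.zpowers_le.2 hx) hy) hy1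
    let f : Option Q → T := fun o => o.elim ⟨⟨η, hη⟩, he⟩ fun q => ⟨⟨θ q, hθirr q⟩, hfix q x⟩
    have hf : Function.Injective f := by
      intro a b e
      have e' := congrArg (fun t : T => ((t.1 : Cfsg.IrrCharacter K) : K → ℂ)) e
      rcases a with _ | a <;> rcases b with _ | b
      · rfl
      · exact absurd e' (hne b)
      · exact absurd e'.symm (hne a)
      · exact congrArg some (hθinj e')
    have := (Nat.card_le_card_of_injective f hf).trans hT
    rw [Finite.card_option, hQcard] at this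
    omega

end Cfsg.Agent.Lib.CyclicTI.IsPLike
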