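import Cfsg.Prelude.Def_OddOrderChar
import Cfsg.Prelude.Def_OddOrderLocal
import Cfsg.Agent.Lib.Characters.Linear
import Cfsg.Agent.Lib.Characters.Complete
import Cfsg.Agent.Lib.Induced.Character
import Cfsg.Agent.Lib.Characters.Generalized
import Cfsg.Agent.Lib.Isometry.TI
import Cfsg.Agent.Lib.Isometry.Inner

/-!
# A cyclic subgroup which is self-normalising off two factors

Linear characters of `W = W₁W₂`, the functions `(1 - φ)(1 - ψ)` and their induction.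
-/

set_option autoImplicit false
set_option linter.style.haveILetI false

namespace Cfsg.Agent.Lib.CyclicTI

open scoped ComplexConjugate
open Cfsg.Agent.Lib.Induced.Basic Cfsg.Agent.Lib.Characters.Basic
open Cfsg.Agent.Lib.Characters.Complete Cfsg.Agent.Lib.Characters.Linear

universe u

variable {G : Type u} [Group G] {W₁ W₂ : Subgroup G}

/-- The inclusion of an element of the first factor. -/
def inl {a : G} (ha : a ∈ W₁) : ↥(W₁ ⊔ W₂) := ⟨a, le_sup_left (a := W₁) (b := W₂) ha⟩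

/-- The inclusion of an element of the second factor. -/
def inr {a : G} (ha : a ∈ W₂) : ↥(W₁ ⊔ W₂) := ⟨a, le_sup_right (a := W₁) (b := W₂) ha⟩

/-- The linear character as a function. -/
def lin (ω : ↥(W₁ ⊔ W₂) →* ℂˣ) : ↥(W₁ ⊔ W₂) → ℂ := fun w => (ω w : ℂ)

/-- The function `(1 - φ)(1 - ψ)`. -/
def beta (φ ψ : ↥(W₁ ⊔ W₂) →* ℂˣ) : ↥(W₁ ⊔ W₂) → ℂ := fun w => 1 - (φ w : ℂ) - (ψ w : ℂ) + (φ w : ℂ) * (ψ w : ℂ)

/-- Trivial on the second factor. -/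
def IsP (φ : ↥(W₁ ⊔ W₂) →* ℂˣ) : Prop := ∀ w : ↥(W₁ ⊔ W₂), (w : G) ∈ W₂ → φ w = 1

/-- Trivial on the first factor. -/
def IsQ (ψ : ↥(W₁ ⊔ W₂) →* ℂˣ) : Prop := ∀ w : ↥(W₁ ⊔ W₂), (w : G) ∈ W₁ → ψ w = 1

theorem isP_one : IsP (1 : ↥(W₁ ⊔ W₂) →* ℂˣ) := fun _ _ => rfl

theorem isQ_one : IsQ (1 : ↥(W₁ ⊔ W₂) →* ℂˣ) := fun _ _ => rfl

theorem IsP.mul {φ φ' : ↥(W₁ ⊔ W₂) →* ℂˣ} (h : IsP φ) (h' : IsP φ') : IsP (φ * φ') := fun w hw => by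
  rw [MonoidHom.mul_apply, h w hw, h' w hw, one_mul]

theorem IsQ.mul {φ φ' : ↥(W₁ ⊔ W₂) →* ℂˣ} (h : IsQ φ) (h' : IsQ φ') : IsQ (φ * φ') := fun w hw => by
  rw [MonoidHom.mul_apply, h w hw, h' w hw, one_mul]

theorem IsP.pow {φ : ↥(W₁ ⊔ W₂) →* ℂˣ} (h : IsP φ) (n : ℕ) : IsP (φ ^ n) := fun w hw => by
  rw [show (φ ^ n) w = φ w ^ n from rfl, h w hw, one_pow]

theorem IsQ.pow {φ : ↥(W₁ ⊔ W₂) →* ℂˣ} (h : IsQ φ) (n : ℕ) : IsQ (φ ^ n) := fun w hw => by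
  rw [show (φ ^ n) w = φ w ^ n from rfl, h w hw, one_pow]

theorem hom_ext {ω ω' : ↥(W₁ ⊔ W₂) →* ℂˣ} (h₁ : ∀ w : ↥(W₁ ⊔ W₂), (w : G) ∈ W₁ → ω w = ω' w)
    (h₂ : ∀ w : ↥(W₁ ⊔ W₂), (w : G) ∈ W₂ → ω w = ω' w) : ω = ω' := by
  have hle : W₁ ⊔ W₂ ≤ (ω.eqLocus ω').map (W₁ ⊔ W₂).subtype :=
    sup_le (fun a ha => ⟨inl ha, h₁ _ ha, rfl⟩) (fun a ha => ⟨inr ha, h₂ _ ha, rfl⟩)
  refine MonoidHom.ext fun w => ?_
  obtain ⟨w', hw', e⟩ := hle w.2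
  obtain rfl : w' = w := Subtype.ext e
  exact hw'

theorem pair_inj {φ φ' ψ ψ' : ↥(W₁ ⊔ W₂) →* ℂˣ} (hφ : IsP φ) (hφ' : IsP φ') (hψ : IsQ ψ) (hψ' : IsQ ψ')
    (h : φ * ψ = φ' * ψ') : φ = φ' ∧ ψ = ψ' := by
  refine ⟨hom_ext (fun w hw => ?_) (fun w hw => (hφ w hw).trans (hφ' w hw).symm),
    hom_ext (fun w hw => (hψ w hw).trans (hψ' w hw).symm) (fun w hw => ?_)⟩
  · simpa [hψ w hw, hψ' w hw] using DFunLike.congr_fun h w
  · simpa [hφ w hw, hφ' w hw] using DFunLike.congr_fun h w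

theorem mul_eq_one_iff {φ ψ : ↥(W₁ ⊔ W₂) →* ℂˣ} (hφ : IsP φ) (hψ : IsQ ψ) :
    φ * ψ = 1 ↔ φ = 1 ∧ ψ = 1 :=
  ⟨fun h => pair_inj hφ isP_one hψ isQ_one (by rw [h]; ext; simp),
    fun h => by rw [h.1, h.2]; ext; simp⟩

theorem eq_mul_iff {φ ψ ω : ↥(W₁ ⊔ W₂) →* ℂˣ} (hφ : IsP φ) (hψ : IsQ ψ) (hω : IsP ω) :
    φ * ψ = ω ↔ φ = ω ∧ ψ = 1 :=
  ⟨fun h => pair_inj hφ hω hψ isQ_one (by rw [h]; ext; simp), fun h => by rw [h.1, h.2]; ext; simp⟩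

theorem eq_mul_iff' {φ ψ ω : ↥(W₁ ⊔ W₂) →* ℂˣ} (hφ : IsP φ) (hψ : IsQ ψ) (hω : IsQ ω) :
    φ * ψ = ω ↔ φ = 1 ∧ ψ = ω :=
  ⟨fun h => pair_inj hφ isP_one hψ hω (by rw [h]; ext; simp), fun h => by rw [h.1, h.2]; ext; simp⟩

theorem isP_isQ_eq {φ ψ : ↥(W₁ ⊔ W₂) →* ℂˣ} (hφ : IsP φ) (hψ : IsQ ψ) (h : φ = ψ) : φ = 1 :=
  (pair_inj hφ isP_one isQ_one hψ (by rw [h]; ext; simp)).1

theorem beta_eq (φ ψ : ↥(W₁ ⊔ W₂) →* ℂˣ) :
    beta φ ψ = lin 1 - lin φ - lin ψ + lin (φ * ψ) := by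
  funext w
  simp [beta, lin]

theorem beta_eq_zero {φ ψ : ↥(W₁ ⊔ W₂) →* ℂˣ} (hφ : IsP φ) (hψ : IsQ ψ) {w : ↥(W₁ ⊔ W₂)}
    (hw : (w : G) ∈ W₁ ∨ (w : G) ∈ W₂) : beta φ ψ w = 0 := by
  rcases hw with h | h
  · simp [beta, hψ w h]
  · simp [beta, hφ w h]

theorem beta_one_left (ψ : ↥(W₁ ⊔ W₂) →* ℂˣ) : beta 1 ψ = 0 := by
  funext w
  simp [beta]

theorem beta_one_right (φ : ↥(W₁ ⊔ W₂) →* ℂˣ) : beta φ 1 = 0 := by
  funext w
  simp [beta]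

theorem classInner_lin [Finite G] [Fintype ↥(W₁ ⊔ W₂)] (ω ω' : ↥(W₁ ⊔ W₂) →* ℂˣ) :
    Cfsg.classInner (lin ω) (lin ω') = if ω = ω' then 1 else 0 := by
  classical
  show Cfsg.classInner ((linChar ω : Cfsg.IrrCharacter ↥(W₁ ⊔ W₂)) : ↥(W₁ ⊔ W₂) → ℂ) (linChar ω') = _
  rw [classInner_irr]
  exact if_congr linChar_injective.eq_iff rfl rfl

theorem classInner_beta_lin [Finite G] [Fintype ↥(W₁ ⊔ W₂)] (φ ψ ω : ↥(W₁ ⊔ W₂) →* ℂˣ) :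
    Cfsg.classInner (beta φ ψ) (lin ω) = (if 1 = ω then 1 else 0) - (if φ = ω then 1 else 0)
      - (if ψ = ω then 1 else 0) + (if φ * ψ = ω then 1 else 0) := by
  rw [beta_eq, classInner_add_left, classInner_sub_left, classInner_sub_left]
  simp only [classInner_lin]

theorem classInner_beta_beta [Finite G] [Fintype ↥(W₁ ⊔ W₂)] {φ φ' ψ ψ' : ↥(W₁ ⊔ W₂) →* ℂˣ} (hφ : IsP φ)
    (hφ' : IsP φ') (hψ : IsQ ψ) (hψ' : IsQ ψ') (h1 : φ ≠ 1) (h1' : φ' ≠ 1) (h2 : ψ ≠ 1)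
    (h2' : ψ' ≠ 1) :
    Cfsg.classInner (beta φ ψ) (beta φ' ψ') = 1 + (if φ = φ' then 1 else 0) +
      (if ψ = ψ' then 1 else 0) +
        (if φ = φ' then 1 else 0) * (if ψ = ψ' then 1 else 0) := by
  classical
  rw [beta_eq φ' ψ', classInner_add_right, classInner_sub_right, classInner_sub_right]
  simp only [classInner_beta_lin]
  have n1 : φ ≠ ψ' := fun h => h1 (isP_isQ_eq hφ hψ' h)
  have n2 : ψ ≠ φ' := fun h => h1' (isP_isQ_eq hφ' hψ h.symm)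
  have n3 : φ * ψ ≠ φ' := fun h => h2 ((eq_mul_iff hφ hψ hφ').1 h).2
  have n4 : φ * ψ ≠ ψ' := fun h => h1 ((eq_mul_iff' hφ hψ hψ').1 h).1
  have n5 : φ ≠ φ' * ψ' := fun h => h2' ((eq_mul_iff hφ' hψ' hφ).1 h.symm).2
  have n6 : ψ ≠ φ' * ψ' := fun h => h1' ((eq_mul_iff' hφ' hψ' hψ).1 h.symm).1
  have n7 : φ * ψ ≠ 1 := fun h => h1 ((mul_eq_one_iff hφ hψ).1 h).1
  have n8 : (1 : ↥(W₁ ⊔ W₂) →* ℂˣ) ≠ φ' * ψ' := fun h => h1' ((mul_eq_one_iff hφ' hψ').1 h.symm).1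
  have e : (φ * ψ = φ' * ψ') ↔ (φ = φ' ∧ ψ = ψ') :=
    ⟨pair_inj hφ hφ' hψ hψ', fun h => by rw [h.1, h.2]⟩
  simp only [n1, n2, n3, n4, n5, n6, n7, n8, e, h1, h2, h1'.symm, h2'.symm, if_true, if_false]
  by_cases ha : φ = φ' <;> by_cases hb : ψ = ψ' <;> simp [ha, hb]

theorem linearIndependent_beta [Finite G] :
    LinearIndependent ℂ (fun p : {p : (↥(W₁ ⊔ W₂) →* ℂˣ) × (↥(W₁ ⊔ W₂) →* ℂˣ) //
      p.1 ≠ 1 ∧ p.2 ≠ 1 ∧ IsP p.1 ∧ IsQ p.2} => beta p.1.1 p.1.2) := by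
  classical
  haveI := Fintype.ofFinite ↥(W₁ ⊔ W₂)
  rw [linearIndependent_iff']
  intro s c hsum q hq
  have h := congrArg (fun f => Cfsg.classInner f (lin (q.1.1 * q.1.2))) hsum
  simp only [classInner_sum_left, classInner_smul_left, classInner_zero_left] at h
  rw [Finset.sum_eq_single q] at h
  · obtain ⟨a1, a2, a3, a4⟩ := q.2
    rw [classInner_beta_lin, if_neg (fun e => a1 ((mul_eq_one_iff a3 a4).1 e.symm).1),
      if_neg (fun e => a2 ((eq_mul_iff a3 a4 a3).1 e.symm).2),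
      if_neg (fun e => a1 ((eq_mul_iff' a3 a4 a4).1 e.symm).1), if_pos rfl] at h
    simpa using h
  · intro p _ hpq
    obtain ⟨a1, a2, a3, a4⟩ := q.2
    obtain ⟨b1, b2, b3, b4⟩ := p.2
    rw [classInner_beta_lin, if_neg (fun e => a1 ((mul_eq_one_iff a3 a4).1 e.symm).1),
      if_neg (fun e => a2 ((eq_mul_iff a3 a4 b3).1 e.symm).2),
      if_neg (fun e => a1 ((eq_mul_iff' a3 a4 b4).1 e.symm).1),
      if_neg (fun e => hpq (Subtype.ext (Prod.ext (pair_inj b3 a3 b4 a4 e).1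
        (pair_inj b3 a3 b4 a4 e).2)))]
    ring
  · exact fun h => absurd hq h

/-! ## The cyclic self-normalising situation -/

section Cyclic

variable (hW : Cfsg.IsSelfNormalizingCyclic W₁ W₂)

include hW

theorem comm (a b : ↥(W₁ ⊔ W₂)) : a * b = b * a := by
  haveI := hW.2.2.2.2.1
  obtain ⟨g, hg⟩ := IsCyclic.exists_generator (α := ↥(W₁ ⊔ W₂))
  obtain ⟨i, rfl⟩ := hg a
  obtain ⟨j, rfl⟩ := hg b
  exact ((Commute.refl g).zpow_zpow i j).eq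

theorem isClassFunction (f : ↥(W₁ ⊔ W₂) → ℂ) : Cfsg.IsClassFunction ↥(W₁ ⊔ W₂) f := fun g h => by
  rw [comm hW h g, mul_inv_cancel_right]

theorem eq_one_of_mem {a : G} (h₁ : a ∈ W₁) (h₂ : a ∈ W₂) : a = 1 :=
  Subgroup.mem_bot.1 (hW.2.2.1 ▸ ⟨h₁, h₂⟩)

theorem exists_proj : ∃ π₁ π₂ : ↥(W₁ ⊔ W₂) →* ↥(W₁ ⊔ W₂), ∀ w, w = π₁ w * π₂ w ∧ (π₁ w : G) ∈ W₁ ∧
    (π₂ w : G) ∈ W₂ := by
  let f : W₁ × W₂ →* ↥(W₁ ⊔ W₂) :=
    MonoidHom.noncommCoprod (Subgroup.inclusion le_sup_left) (Subgroup.inclusion le_sup_right)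
      (fun a b => comm hW _ _)
  have hf : ∀ z : W₁ × W₂, ((f z : ↥(W₁ ⊔ W₂)) : G) = (z.1 : G) * (z.2 : G) := fun _ => rfl
  have hinj : Function.Injective f := by
    rw [injective_iff_map_eq_one]
    rintro ⟨a, b⟩ h
    have h' : (a : G) * (b : G) = 1 := by rw [← hf (a, b), h]; rfl
    have ha : (a : G) = 1 := eq_one_of_mem hW a.2
      (by rw [eq_inv_of_mul_eq_one_left h']; exact W₂.inv_mem b.2)
    rw [ha, one_mul] at h'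
    exact Prod.ext (Subtype.ext ha) (Subtype.ext h')
  have hsurj : Function.Surjective f := by
    have hle : W₁ ⊔ W₂ ≤ f.range.map (W₁ ⊔ W₂).subtype :=
      sup_le (fun a ha => ⟨inl ha, ⟨(⟨a, ha⟩, 1), Subtype.ext (by simp [hf, inl])⟩, rfl⟩)
        (fun a ha => ⟨inr ha, ⟨(1, ⟨a, ha⟩), Subtype.ext (by simp [hf, inr])⟩, rfl⟩)
    intro w
    obtain ⟨w', hw', e⟩ := hle w.2
    obtain rfl : w' = w := Subtype.ext e
    exact hw'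
  let e := MulEquiv.ofBijective f ⟨hinj, hsurj⟩
  refine ⟨((Subgroup.inclusion le_sup_left).comp (MonoidHom.fst W₁ W₂)).comp e.symm.toMonoidHom,
    ((Subgroup.inclusion le_sup_right).comp (MonoidHom.snd W₁ W₂)).comp e.symm.toMonoidHom,
    fun w => ⟨?_, (e.symm w).1.2, (e.symm w).2.2⟩⟩
  exact (e.apply_symm_apply w).symm

theorem exists_decomp (ω : ↥(W₁ ⊔ W₂) →* ℂˣ) : ∃ φ ψ, IsP φ ∧ IsQ ψ ∧ ω = φ * ψ := by
  obtain ⟨π₁, π₂, hπ⟩ := exists_proj hW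
  refine ⟨ω.comp π₁, ω.comp π₂, fun w hw => ?_, fun w hw => ?_,
    MonoidHom.ext fun w => by simp [← map_mul, ← (hπ w).1]⟩
  · have h : (π₁ w : G) = 1 := eq_one_of_mem hW (hπ w).2.1 (by
      have e : (w : G) = π₁ w * π₂ w := congrArg Subtype.val (hπ w).1
      rw [eq_mul_inv_of_mul_eq e.symm]
      exact W₂.mul_mem hw (W₂.inv_mem (hπ w).2.2))
    simp [show π₁ w = 1 from Subtype.ext h]
  · have h : (π₂ w : G) = 1 := eq_one_of_mem hW (by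
      have e : (w : G) = π₁ w * π₂ w := congrArg Subtype.val (hπ w).1
      rw [eq_inv_mul_of_mul_eq e.symm]
      exact W₁.mul_mem (W₁.inv_mem (hπ w).2.1) hw) (hπ w).2.2
    simp [show π₂ w = 1 from Subtype.ext h]

theorem exists_isP_apply_ne_one [Finite G] {w : ↥(W₁ ⊔ W₂)} (hw : (w : G) ∉ W₂) :
    ∃ φ : ↥(W₁ ⊔ W₂) →* ℂˣ, IsP φ ∧ φ w ≠ 1 := by
  by_contra hno
  push Not at hno
  obtain ⟨π₁, π₂, hπ⟩ := exists_proj hW
  have h1 : π₁ w = 1 := by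
    refine eq_one_of_forall_irr fun χ => ?_
    have hd := degree_eq_one_of_comm (comm hW) χ
    set ω := degOneHom (isCharacter_irr χ) hd
    obtain ⟨φ, ψ, hφ, hψ, hωφ⟩ := exists_decomp hW ω
    have hval : ω (π₁ w) = 1 := by
      rw [hωφ, MonoidHom.mul_apply, hψ _ (hπ w).2.1, mul_one]
      have e : φ w = φ (π₁ w) := by
        conv_lhs => rw [(hπ w).1, map_mul, hφ _ (hπ w).2.2, mul_one]
      rw [← e, hno φ hφ]
    rw [← degOneHom_apply (isCharacter_irr χ) hd (π₁ w), hd, hval, Units.val_one]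
  refine hw ?_
  rw [(hπ w).1, h1, one_mul]
  exact (hπ w).2.2

theorem exists_isQ_apply_ne_one [Finite G] {w : ↥(W₁ ⊔ W₂)} (hw : (w : G) ∉ W₁) :
    ∃ φ : ↥(W₁ ⊔ W₂) →* ℂˣ, IsQ φ ∧ φ w ≠ 1 := by
  by_contra hno
  push Not at hno
  obtain ⟨π₁, π₂, hπ⟩ := exists_proj hW
  have h1 : π₂ w = 1 := by
    refine eq_one_of_forall_irr fun χ => ?_
    have hd := degree_eq_one_of_comm (comm hW) χ
    set ω := degOneHom (isCharacter_irr χ) hd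
    obtain ⟨φ, ψ, hφ, hψ, hωφ⟩ := exists_decomp hW ω
    have hval : ω (π₂ w) = 1 := by
      rw [hωφ, MonoidHom.mul_apply, hφ _ (hπ w).2.2, one_mul]
      have e : ψ w = ψ (π₂ w) := by
        conv_lhs => rw [(hπ w).1, map_mul, hψ _ (hπ w).2.1, one_mul]
      rw [← e, hno ψ hψ]
    rw [← degOneHom_apply (isCharacter_irr χ) hd (π₂ w), hd, hval, Units.val_one]
  refine hw ?_
  rw [(hπ w).1, h1, mul_one]
  exact (hπ w).2.1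

omit hW in
theorem finite_hom [Finite G] : Finite (↥(W₁ ⊔ W₂) →* ℂˣ) :=
  Finite.of_injective _ (linChar_injective (G := ↥(W₁ ⊔ W₂)))

open scoped Classical in
theorem sum_isP [Finite G] [Fintype (↥(W₁ ⊔ W₂) →* ℂˣ)] (u : ↥(W₁ ⊔ W₂)) :
    ∑ φ : ↥(W₁ ⊔ W₂) →* ℂˣ with IsP φ, (φ u : ℂ) =
      if (u : G) ∈ W₂ then
        ((Finset.univ.filter fun φ : ↥(W₁ ⊔ W₂) →* ℂˣ => IsP φ).card : ℂ) else 0 := by
  split_ifs with hu
  · rw [Finset.sum_congr rfl fun φ hφ => by rw [(Finset.mem_filter.1 hφ).2 u hu, Units.val_one]]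
    simp
  obtain ⟨φ₀, hφ₀, hne⟩ := exists_isP_apply_ne_one hW hu
  set S := ∑ φ : ↥(W₁ ⊔ W₂) →* ℂˣ with IsP φ, (φ u : ℂ)
  have h : (φ₀ u : ℂ) * S = S := by
    rw [Finset.mul_sum]
    refine Finset.sum_bijective (fun φ => φ₀ * φ) (Group.mulLeft_bijective φ₀) (fun φ => ?_)
      (fun φ _ => by simp)
    simp only [Finset.mem_filter, Finset.mem_univ, true_and]
    refine ⟨hφ₀.mul, fun h w hw => ?_⟩
    have := h w hw
    rwa [MonoidHom.mul_apply, hφ₀ w hw, one_mul] at this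
  have : ((φ₀ u : ℂ) - 1) * S = 0 := by rw [sub_mul, h, one_mul, sub_self]
  exact (mul_eq_zero.1 this).resolve_left (sub_ne_zero.2 fun e => hne (Units.ext e))

open scoped Classical in
theorem sum_isQ [Finite G] [Fintype (↥(W₁ ⊔ W₂) →* ℂˣ)] (u : ↥(W₁ ⊔ W₂)) :
    ∑ φ : ↥(W₁ ⊔ W₂) →* ℂˣ with IsQ φ, (φ u : ℂ) =
      if (u : G) ∈ W₁ then
        ((Finset.univ.filter fun φ : ↥(W₁ ⊔ W₂) →* ℂˣ => IsQ φ).card : ℂ) else 0 := by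
  split_ifs with hu
  · rw [Finset.sum_congr rfl fun φ hφ => by rw [(Finset.mem_filter.1 hφ).2 u hu, Units.val_one]]
    simp
  obtain ⟨φ₀, hφ₀, hne⟩ := exists_isQ_apply_ne_one hW hu
  set S := ∑ φ : ↥(W₁ ⊔ W₂) →* ℂˣ with IsQ φ, (φ u : ℂ)
  have h : (φ₀ u : ℂ) * S = S := by
    rw [Finset.mul_sum]
    refine Finset.sum_bijective (fun φ => φ₀ * φ) (Group.mulLeft_bijective φ₀) (fun φ => ?_)
      (fun φ _ => by simp)
    simp only [Finset.mem_filter, Finset.mem_univ, true_and]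
    refine ⟨hφ₀.mul, fun h w hw => ?_⟩
    have := h w hw
    rwa [MonoidHom.mul_apply, hφ₀ w hw, one_mul] at this
  have : ((φ₀ u : ℂ) - 1) * S = 0 := by rw [sub_mul, h, one_mul, sub_self]
  exact (mul_eq_zero.1 this).resolve_left (sub_ne_zero.2 fun e => hne (Units.ext e))

/-- A function orthogonal to all `(1 - φ)(1 - ψ)` vanishes off the two factors. -/
theorem eq_zero_of_orthogonal [Finite G] [Fintype ↥(W₁ ⊔ W₂)] (D : ↥(W₁ ⊔ W₂) → ℂ)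
    (h : ∀ φ ψ : ↥(W₁ ⊔ W₂) →* ℂˣ, φ ≠ 1 → ψ ≠ 1 → IsP φ → IsQ ψ → Cfsg.classInner D (beta φ ψ) = 0)
    {v : ↥(W₁ ⊔ W₂)} (hv₁ : (v : G) ∉ W₁) (hv₂ : (v : G) ∉ W₂) : D v = 0 := by
  classical
  haveI := finite_hom (W₁ := W₁) (W₂ := W₂)
  haveI := Fintype.ofFinite (↥(W₁ ⊔ W₂) →* ℂˣ)
  set cp : ℂ := ((Finset.univ.filter fun φ : ↥(W₁ ⊔ W₂) →* ℂˣ => IsP φ).card : ℂ)
  set cq : ℂ := ((Finset.univ.filter fun φ : ↥(W₁ ⊔ W₂) →* ℂˣ => IsQ φ).card : ℂ)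
  have hcp : cp ≠ 0 := Nat.cast_ne_zero.2 (Finset.card_ne_zero_of_mem
    (Finset.mem_filter.2 ⟨Finset.mem_univ _, isP_one⟩))
  have hcq : cq ≠ 0 := Nat.cast_ne_zero.2 (Finset.card_ne_zero_of_mem
    (Finset.mem_filter.2 ⟨Finset.mem_univ _, isQ_one⟩))
  have hall : ∀ φ ψ : ↥(W₁ ⊔ W₂) →* ℂˣ, IsP φ → IsQ ψ → Cfsg.classInner D (beta φ ψ) = 0 := by
    intro φ ψ hφ hψ
    by_cases h1 : φ = 1
    · rw [h1, beta_one_left, classInner_zero_right]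
    by_cases h2 : ψ = 1
    · rw [h2, beta_one_right, classInner_zero_right]
    exact h φ ψ h1 h2 hφ hψ
  have hker : ∀ w : ↥(W₁ ⊔ W₂), (∑ φ : ↥(W₁ ⊔ W₂) →* ℂˣ with IsP φ, ∑ ψ : ↥(W₁ ⊔ W₂) →* ℂˣ with IsQ ψ,
      (φ v⁻¹ : ℂ) * (ψ v⁻¹ : ℂ) * beta φ ψ w) = if w = v then cp * cq else 0 := by
    intro w
    have e : ∀ φ ψ : ↥(W₁ ⊔ W₂) →* ℂˣ, (φ v⁻¹ : ℂ) * (ψ v⁻¹ : ℂ) * beta φ ψ w =
        ((φ v⁻¹ : ℂ) - (φ (v⁻¹ * w) : ℂ)) * ((ψ v⁻¹ : ℂ) - (ψ (v⁻¹ * w) : ℂ)) := by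
      intro φ ψ
      simp only [beta, map_mul, Units.val_mul]
      ring
    simp only [e, ← Finset.mul_sum, ← Finset.sum_mul]
    rw [Finset.sum_sub_distrib, Finset.sum_sub_distrib, sum_isP hW, sum_isP hW, sum_isQ hW,
      sum_isQ hW,
      if_neg (show ((v⁻¹ : ↥(W₁ ⊔ W₂)) : G) ∉ W₂ from fun hm => hv₂ (by simpa using hm)),
      if_neg (show ((v⁻¹ : ↥(W₁ ⊔ W₂)) : G) ∉ W₁ from fun hm => hv₁ (by simpa using hm))]
    by_cases hwv : w = v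
    · subst hwv
      simp [cp, cq]
    · rw [if_neg hwv]
      by_cases m₂ : ((v⁻¹ * w : ↥(W₁ ⊔ W₂)) : G) ∈ W₂
      · by_cases m₁ : ((v⁻¹ * w : ↥(W₁ ⊔ W₂)) : G) ∈ W₁
        · exact absurd (inv_mul_eq_one.1 (Subtype.ext (eq_one_of_mem hW m₁ m₂) :
            v⁻¹ * w = 1)).symm hwv
        · rw [if_neg m₁]; ring
      · rw [if_neg m₂]; ring
  have hzero : ∑ φ : ↥(W₁ ⊔ W₂) →* ℂˣ with IsP φ, ∑ ψ : ↥(W₁ ⊔ W₂) →* ℂˣ with IsQ ψ,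
      conj ((φ v⁻¹ : ℂ) * (ψ v⁻¹ : ℂ)) * Cfsg.classInner D (beta φ ψ) = 0 :=
    Finset.sum_eq_zero fun φ hφ => Finset.sum_eq_zero fun ψ hψ => by
      rw [hall φ ψ (Finset.mem_filter.1 hφ).2 (Finset.mem_filter.1 hψ).2, mul_zero]
  simp only [← classInner_smul_right, ← classInner_sum_right] at hzero
  rw [show (∑ φ : ↥(W₁ ⊔ W₂) →* ℂˣ with IsP φ, ∑ ψ : ↥(W₁ ⊔ W₂) →* ℂˣ with IsQ ψ,
      ((φ v⁻¹ : ℂ) * (ψ v⁻¹ : ℂ)) • beta φ ψ) = fun w => if w = v then cp * cq else 0 by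
    funext w
    simp only [Finset.sum_apply, Pi.smul_apply, smul_eq_mul]
    exact hker w, Cfsg.classInner] at hzero
  simp only [apply_ite (starRingEnd ℂ), map_zero, mul_ite, mul_zero] at hzero
  rw [Finset.sum_ite_eq' Finset.univ v, if_pos (Finset.mem_univ v)] at hzero
  have h0 := (mul_eq_zero.1 hzero).resolve_left (inv_ne_zero natCard_ne_zero)
  exact (mul_eq_zero.1 h0).resolve_right ((map_ne_zero _).2 (mul_ne_zero hcp hcq))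

theorem card_isP [Finite G] [Fintype (↥(W₁ ⊔ W₂) →* ℂˣ)] [DecidablePred (IsP (W₁ := W₁) (W₂ := W₂))] :
    (Finset.univ.filter fun φ : ↥(W₁ ⊔ W₂) →* ℂˣ => IsP φ).card = Nat.card W₁ := by
  classical
  haveI := Fintype.ofFinite ↥(W₁ ⊔ W₂)
  set S := Finset.univ.filter fun φ : ↥(W₁ ⊔ W₂) →* ℂˣ => IsP φ
  have h1 : ∀ φ : ↥(W₁ ⊔ W₂) →* ℂˣ, ∑ u : ↥(W₁ ⊔ W₂), (φ u : ℂ) = if φ = 1 then (Nat.card ↥(W₁ ⊔ W₂) : ℂ) else 0 := by
    intro φ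
    have h := classInner_lin φ (1 : ↥(W₁ ⊔ W₂) →* ℂˣ)
    rw [Cfsg.classInner] at h
    simp only [lin, MonoidHom.one_apply, Units.val_one, map_one, mul_one] at h
    rw [inv_mul_eq_iff_eq_mul₀ natCard_ne_zero] at h
    rw [h]
    split_ifs <;> simp
  have h2 : ∑ φ ∈ S, ∑ u : ↥(W₁ ⊔ W₂), (φ u : ℂ) = (Nat.card ↥(W₁ ⊔ W₂) : ℂ) := by
    simp only [h1]
    rw [Finset.sum_ite_eq' S, if_pos (by simp [S, isP_one])]
  have h4 : ∀ u : ↥(W₁ ⊔ W₂), ∑ φ ∈ S, (φ u : ℂ) = if (u : G) ∈ W₂ then (S.card : ℂ) else 0 :=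
    fun u => by convert sum_isP hW u
  rw [Finset.sum_comm, Finset.sum_congr rfl fun u _ => h4 u, ← Finset.sum_filter,
    Finset.sum_const, nsmul_eq_mul] at h2
  have hW₂ : (Finset.univ.filter fun u : ↥(W₁ ⊔ W₂) => (u : G) ∈ W₂).card = Nat.card W₂ := by
    rw [← Fintype.card_subtype, ← Nat.card_eq_fintype_card]
    exact Nat.card_congr ⟨fun u => ⟨u.1, u.2⟩, fun a => ⟨inr a.2, a.2⟩, fun _ => rfl, fun _ => rfl⟩
  have hWcard : Nat.card ↥(W₁ ⊔ W₂) = Nat.card W₁ * Nat.card W₂ := by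
    rw [← Nat.card_prod]
    obtain ⟨π₁, π₂, hπ⟩ := exists_proj hW
    refine Nat.card_congr ⟨fun w => (⟨π₁ w, (hπ w).2.1⟩, ⟨π₂ w, (hπ w).2.2⟩),
      fun z => inl z.1.2 * inr z.2.2, fun w => (hπ w).1.symm, fun z => ?_⟩
    set w : ↥(W₁ ⊔ W₂) := inl z.1.2 * inr z.2.2
    have e : (π₁ w : G) * π₂ w = z.1 * z.2 := congrArg Subtype.val (hπ w).1.symm
    have hd : (z.1 : G)⁻¹ * π₁ w = 1 := eq_one_of_mem hW (W₁.mul_mem (W₁.inv_mem z.1.2) (hπ w).2.1)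
      (by rw [eq_mul_inv_of_mul_eq e, mul_assoc, inv_mul_cancel_left]
          exact W₂.mul_mem z.2.2 (W₂.inv_mem (hπ w).2.2))
    have e₁ : (π₁ w : G) = z.1 := (inv_mul_eq_one.1 hd).symm
    rw [e₁] at e
    exact Prod.ext (Subtype.ext e₁) (Subtype.ext (mul_left_cancel e))
  rw [hW₂, hWcard] at h2
  have h3 : Nat.card W₂ * S.card = Nat.card W₁ * Nat.card W₂ := by exact_mod_cast h2
  rw [mul_comm (Nat.card W₁)] at h3
  exact Nat.eq_of_mul_eq_mul_left Nat.card_pos h3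

theorem mem_factor_iff [Finite G] {a : G} (ha : a ∈ W₁ ⊔ W₂) :
    (a ∈ W₁ ↔ a ^ Nat.card W₁ = 1) ∧ (a ∈ W₂ ↔ a ^ Nat.card W₂ = 1) := by
  classical
  haveI := hW.2.2.2.2.1
  haveI := Fintype.ofFinite ↥(W₁ ⊔ W₂)
  have key : ∀ X : Subgroup G, X ≤ W₁ ⊔ W₂ → (a ∈ X ↔ a ^ Nat.card X = 1) := by
    intro X hX
    refine ⟨fun h => ?_, fun h => ?_⟩
    · exact orderOf_dvd_iff_pow_eq_one.1 (Subgroup.orderOf_dvd_natCard _ h)
    · have hsub : (Finset.univ.filter fun w : ↥(W₁ ⊔ W₂) => (w : G) ∈ X) ⊆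
          Finset.univ.filter fun w : ↥(W₁ ⊔ W₂) => w ^ Nat.card X = 1 := fun w hw => by
        simp only [Finset.mem_filter, Finset.mem_univ, true_and] at hw ⊢
        exact Subtype.ext (orderOf_dvd_iff_pow_eq_one.1 (Subgroup.orderOf_dvd_natCard _ hw))
      have hc : (Finset.univ.filter fun w : ↥(W₁ ⊔ W₂) => (w : G) ∈ X).card = Nat.card X := by
        rw [← Fintype.card_subtype, ← Nat.card_eq_fintype_card]
        exact Nat.card_congr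
          ⟨fun u => ⟨u.1, u.2⟩, fun b => ⟨⟨b, hX b.2⟩, b.2⟩, fun _ => rfl, fun _ => rfl⟩
      have heq := Finset.eq_of_subset_of_card_le hsub
        (hc.symm ▸ IsCyclic.card_pow_eq_one_le (α := ↥(W₁ ⊔ W₂)) Nat.card_pos)
      have : (⟨a, ha⟩ : ↥(W₁ ⊔ W₂)) ∈ Finset.univ.filter fun w : ↥(W₁ ⊔ W₂) => (w : G) ∈ X := by
        rw [heq]
        simp only [Finset.mem_filter, Finset.mem_univ, true_and]
        exact Subtype.ext h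
      simpa using this
  exact ⟨key W₁ le_sup_left, key W₂ le_sup_right⟩

theorem card_ne_card [Finite G] : Nat.card W₁ ≠ Nat.card W₂ := by
  intro h
  refine hW.2.1 (eq_bot_iff.2 fun a ha => ?_)
  have ha1 : a ∈ W₁ := (mem_factor_iff hW (le_sup_right (a := W₁) ha)).1.2 (by
    rw [h]; exact (mem_factor_iff hW (le_sup_right (a := W₁) ha)).2.1 ha)
  exact Subgroup.mem_bot.2 (eq_one_of_mem hW ha1 ha)

/-- Fusion of elements off the two factors happens inside `W`. -/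
theorem mem_of_conj_mem [Finite G] {v g : G} (hv : v ∈ W₁ ⊔ W₂) (hv₁ : v ∉ W₁) (hv₂ : v ∉ W₂)
    (hgv : g * v * g⁻¹ ∈ W₁ ⊔ W₂) (hgv₁ : g * v * g⁻¹ ∉ W₁) (hgv₂ : g * v * g⁻¹ ∉ W₂) :
    g ∈ W₁ ⊔ W₂ := by
  have hnorm : ∀ b : G, b ∈ W₁ ⊔ W₂ → b ∉ W₁ → b ∉ W₂ →
      ∀ c : G, c ∈ W₁ ⊔ W₂ ↔ c * b * c⁻¹ = b := by
    intro b hb hb1 hb2 c
    rw [← hW.2.2.2.2.2 {b} (Set.singleton_subset_iff.2 ⟨hb, fun h => h.elim hb1 hb2⟩)
      (Set.singleton_nonempty b)]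
    refine ⟨fun h => ?_, fun h => ?_⟩
    · have := Subgroup.mem_set_normalizer_iff.1 h b
      simpa using this
    · exact Cfsg.Agent.Lib.Isometry.TI.mem_normalizer_of_mapsTo fun s hs => by
        rw [Set.mem_singleton_iff] at hs
        rw [hs, h]
        exact Set.mem_singleton b
  have hmap : ∀ a ∈ W₁ ⊔ W₂, g * a * g⁻¹ ∈ W₁ ⊔ W₂ := by
    intro a ha
    rw [hnorm _ hgv hgv₁ hgv₂]
    have e := (hnorm v hv hv₁ hv₂ a).1 ha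
    calc g * a * g⁻¹ * (g * v * g⁻¹) * (g * a * g⁻¹)⁻¹ = g * (a * v * a⁻¹) * g⁻¹ := by group
      _ = _ := by rw [e]
  have hne : ((↑(W₁ ⊔ W₂) : Set G) \ (↑W₁ ∪ ↑W₂)).Nonempty :=
    ⟨v, hv, fun h => h.elim hv₁ hv₂⟩
  rw [← hW.2.2.2.2.2 _ subset_rfl hne]
  refine Cfsg.Agent.Lib.Isometry.TI.mem_normalizer_of_mapsTo fun a ha => ⟨hmap a ha.1, ?_⟩
  have hpow : ∀ n : ℕ, (g * a * g⁻¹) ^ n = 1 → a ^ n = 1 := fun n h => by
    rwa [conj_pow, conj_eq_one_iff] at h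
  rintro (h | h)
  · exact ha.2 (Or.inl ((mem_factor_iff hW ha.1).1.2
      (hpow _ ((mem_factor_iff hW (hmap a ha.1)).1.1 h))))
  · exact ha.2 (Or.inr ((mem_factor_iff hW ha.1).2.2
      (hpow _ ((mem_factor_iff hW (hmap a ha.1)).2.1 h))))

variable [Fintype G]

theorem indFun_beta_apply {φ ψ : ↥(W₁ ⊔ W₂) →* ℂˣ} (hφ : IsP φ) (hψ : IsQ ψ) (v : ↥(W₁ ⊔ W₂))
    (hv₁ : (v : G) ∉ W₁) (hv₂ : (v : G) ∉ W₂) :
    Cfsg.indFun (W₁ ⊔ W₂) (beta φ ψ) v = beta φ ψ v := by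
  classical
  have key : ∀ x : G, Cfsg.extendByZero (W₁ ⊔ W₂) (beta φ ψ) (x⁻¹ * v * x) =
      if x ∈ W₁ ⊔ W₂ then beta φ ψ v else 0 := by
    intro x
    split_ifs with hx
    · have e : x⁻¹ * (v : G) * x = v := by
        have := congrArg Subtype.val (comm hW v ⟨x, hx⟩)
        rw [mul_assoc, show (v : G) * x = x * v from this, inv_mul_cancel_left]
      rw [e, extendByZero_coe]
    · by_cases hm : x⁻¹ * v * x ∈ W₁ ⊔ W₂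
      · rw [extendByZero_of_mem _ _ hm]
        refine beta_eq_zero hφ hψ ?_
        by_contra hno
        push Not at hno
        have h := mem_of_conj_mem hW (g := x⁻¹) v.2 hv₁ hv₂ (by rwa [inv_inv])
          (by rw [inv_inv]; exact hno.1) (by rw [inv_inv]; exact hno.2)
        exact hx (inv_mem_iff.mp h)
      · exact extendByZero_of_not_mem _ _ hm
  simp only [Cfsg.indFun, key]
  rw [← Finset.sum_filter, Finset.sum_const, nsmul_eq_mul, ← mul_assoc]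
  have : (Finset.univ.filter (fun x : G => x ∈ W₁ ⊔ W₂)).card = Nat.card ↥(W₁ ⊔ W₂) := by
    rw [Nat.card_eq_fintype_card, Fintype.card_subtype]
  rw [this, inv_mul_cancel₀ (subgroup_card_ne_zero _), one_mul]

theorem classInner_indFun_beta [Fintype ↥(W₁ ⊔ W₂)] {φ φ' ψ ψ' : ↥(W₁ ⊔ W₂) →* ℂˣ} (hφ : IsP φ) (hψ : IsQ ψ)
    (hφ' : IsP φ') (hψ' : IsQ ψ') :
    Cfsg.classInner (Cfsg.indFun (W₁ ⊔ W₂) (beta φ ψ)) (Cfsg.indFun (W₁ ⊔ W₂) (beta φ' ψ')) =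
      Cfsg.classInner (beta φ ψ) (beta φ' ψ') := by
  rw [frobenius_reciprocity _ _ (isClassFunction_indFun _ _)]
  simp only [Cfsg.classInner]
  congr 1
  refine Finset.sum_congr rfl fun w _ => ?_
  by_cases h : (w : G) ∈ W₁ ∨ (w : G) ∈ W₂
  · rw [beta_eq_zero hφ hψ h, zero_mul, zero_mul]
  · push Not at h
    rw [indFun_beta_apply hW hφ' hψ' w h.1 h.2]

theorem classInner_indFun_beta_one {φ ψ : ↥(W₁ ⊔ W₂) →* ℂˣ} (hφ : IsP φ) (hψ : IsQ ψ) (h1 : φ ≠ 1)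
    (h2 : ψ ≠ 1) :
    Cfsg.classInner (Cfsg.indFun (W₁ ⊔ W₂) (beta φ ψ)) (fun _ : G => (1 : ℂ)) = 1 := by
  classical
  haveI := Fintype.ofFinite ↥(W₁ ⊔ W₂)
  rw [frobenius_reciprocity _ _ (fun _ _ => rfl), show (fun _ : ↥(W₁ ⊔ W₂) => (1 : ℂ)) = lin 1 by
    funext w; simp [lin], classInner_beta_lin, if_pos rfl, if_neg h1, if_neg h2,
    if_neg (fun h => h1 ((mul_eq_one_iff hφ hψ).1 h).1)]
  ring

omit hW in
theorem isGeneralized_indFun_beta (φ ψ : ↥(W₁ ⊔ W₂) →* ℂˣ) :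
    Cfsg.IsGeneralizedCharacter G (Cfsg.indFun (W₁ ⊔ W₂) (beta φ ψ)) := by
  have h : ∀ ω : ↥(W₁ ⊔ W₂) →* ℂˣ, Cfsg.IsGeneralizedCharacter ↥(W₁ ⊔ W₂) (lin ω) := fun ω =>
    Cfsg.Agent.Lib.Characters.Generalized.of_isCharacter
      (Cfsg.Agent.Lib.Induced.Character.isCharacter_hom ω)
  rw [beta_eq]
  exact Cfsg.Agent.Lib.Induced.Character.isGeneralizedCharacter_indFun _
    (Cfsg.Agent.Lib.Characters.Generalized.add (Cfsg.Agent.Lib.Characters.Generalized.sub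
      (Cfsg.Agent.Lib.Characters.Generalized.sub (h _) (h _)) (h _)) (h _))

end Cyclic

end Cfsg.Agent.Lib.CyclicTI
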