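import Cfsg.Agent.Lib.CyclicTI.Star

/-!
# Grids of signed triples

Integer vectors of square length three indexed by a rectangle, with inner product one on lines and
zero elsewhere, and all of the same nonzero weight, come from a labelling of the rows, the columns
and the cells by distinct unit vectors.
-/

set_option autoImplicit false

namespace Cfsg.Agent.Lib.CyclicTI.Grid

open Finset

variable {Ix : Type*} [Fintype Ix]

/-- The inner product of integer vectors. -/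
def dot (u v : Ix → ℤ) : ℤ := ∑ x, u x * v x

theorem dot_comm (u v : Ix → ℤ) : dot u v = dot v u :=
  Finset.sum_congr rfl fun _ _ => mul_comm _ _

theorem sq_le_three {v : Ix → ℤ} (hv : dot v v = 3) (x : Ix) : v x * v x ≤ 3 :=
  hv ▸ Finset.single_le_sum (f := fun x => v x * v x) (fun y _ => mul_self_nonneg (v y))
    (Finset.mem_univ x)

theorem entry_bound {v : Ix → ℤ} (hv : dot v v = 3) (x : Ix) : -1 ≤ v x ∧ v x ≤ 1 := by
  have := sq_le_three hv x
  constructor <;> nlinarith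

theorem entry_sq {v : Ix → ℤ} (hv : dot v v = 3) {x : Ix} (hx : v x ≠ 0) : v x * v x = 1 := by
  have := entry_bound hv x
  rcases (by omega : v x = 1 ∨ v x = -1) with h | h <;> simp [h]

theorem entry_pm {v : Ix → ℤ} (hv : dot v v = 3) {x : Ix} (hx : v x ≠ 0) : v x = 1 ∨ v x = -1 := by
  have := entry_bound hv x
  omega

theorem supp_card {v : Ix → ℤ} (hv : dot v v = 3) :
    (univ.filter fun x => v x ≠ 0).card = 3 := by
  have h : dot v v = ∑ x ∈ univ.filter (fun x => v x ≠ 0), (1 : ℤ) := by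
    rw [Finset.sum_filter]
    refine Finset.sum_congr rfl fun x _ => ?_
    split_ifs with hx
    · exact entry_sq hv hx
    · simp [not_not.1 hx]
  rw [hv, Finset.sum_const, nsmul_one] at h
  exact_mod_cast h.symm

variable [DecidableEq Ix]

theorem third {v : Ix → ℤ} (hv : dot v v = 3) {x y : Ix} (hxy : x ≠ y) (hx : v x ≠ 0)
    (hy : v y ≠ 0) : ∃ z, z ≠ x ∧ z ≠ y ∧ v z ≠ 0 ∧ ∀ t, v t ≠ 0 → t = x ∨ t = y ∨ t = z := by
  set S := univ.filter (fun x => v x ≠ 0) with hS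
  have hcard : ((S.erase x).erase y).card = 1 := by
    rw [Finset.card_erase_of_mem (by simp [hS, hy, hxy.symm]),
      Finset.card_erase_of_mem (by simp [hS, hx]), supp_card hv]
  obtain ⟨z, hz⟩ := Finset.card_eq_one.1 hcard
  have hz' : z ∈ (S.erase x).erase y := hz ▸ Finset.mem_singleton_self z
  simp only [Finset.mem_erase, hS, Finset.mem_filter, Finset.mem_univ, true_and] at hz'
  refine ⟨z, hz'.2.1, hz'.1, hz'.2.2, fun t ht => ?_⟩
  by_contra hno
  push Not at hno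
  have : t ∈ (S.erase x).erase y := by simp [hS, ht, hno.1, hno.2.1]
  rw [hz, Finset.mem_singleton] at this
  exact hno.2.2 this

theorem supp_of_three {v : Ix → ℤ} (hv : dot v v = 3) {x y z : Ix} (hxy : x ≠ y) (hxz : x ≠ z)
    (hyz : y ≠ z) (hx : v x ≠ 0) (hy : v y ≠ 0) (hz : v z ≠ 0) (t : Ix) (ht : v t ≠ 0) :
    t = x ∨ t = y ∨ t = z := by
  obtain ⟨z', -, -, -, hall⟩ := third hv hxy hx hy
  rcases hall z hz with h | h | h
  · exact absurd h.symm hxz
  · exact absurd h.symm hyz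
  · subst h
    exact hall t ht

theorem dot_three {L : Ix → ℤ} (u : Ix → ℤ) {x y z : Ix} (hxy : x ≠ y) (hxz : x ≠ z)
    (hyz : y ≠ z) (hsupp : ∀ t, L t ≠ 0 → t = x ∨ t = y ∨ t = z) :
    dot u L = u x * L x + u y * L y + u z * L z := by
  rw [dot, ← Finset.sum_subset (Finset.subset_univ ({x, y, z} : Finset Ix)),
    Finset.sum_insert (by simp [hxy, hxz]), Finset.sum_pair hyz, add_assoc]
  intro t _ ht
  simp only [Finset.mem_insert, Finset.mem_singleton] at ht
  rw [not_not.1 (fun h => ht (hsupp t h)), mul_zero]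

/-- The line property: two members share exactly one index, with the same value. -/
def Share (u v : Ix → ℤ) : Prop :=
  ∃ x, u x = v x ∧ u x ≠ 0 ∧ ∀ y, u y ≠ 0 → v y ≠ 0 → y = x

theorem share_of_dot {u v d : Ix → ℤ} (hd : ∀ x, d x ≠ 0) (hu : dot u u = 3) (hv : dot v v = 3)
    (huv : dot u v = 1) (hdeq : dot d u = dot d v) : Share u v := by
  have hsame : ∀ x, u x ≠ 0 → v x ≠ 0 → u x = v x := by
    intro x hx hy
    by_contra hne
    set w : Ix → ℤ := fun y => u y - v y with hw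
    have hsum : ∑ y, w y * w y = 4 := by
      have : ∑ y, w y * w y = dot u u + dot v v - 2 * dot u v := by
        simp only [dot, Finset.mul_sum, ← Finset.sum_add_distrib, ← Finset.sum_sub_distrib]
        exact Finset.sum_congr rfl fun y _ => by simp only [hw]; ring
      rw [this, hu, hv, huv]; norm_num
    have hwx : w x * w x = 4 := by
      simp only [hw]
      rcases entry_pm hu hx with a | a <;> rcases entry_pm hv hy with c | c <;>
        simp [a, c] at hne ⊢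
    rw [← Finset.add_sum_erase _ _ (Finset.mem_univ x), hwx, add_eq_left] at hsum
    have hz := (Finset.sum_eq_zero_iff_of_nonneg fun y _ => mul_self_nonneg (w y)).1 hsum
    have hd0 : ∑ y, d y * w y = 0 := by
      simp only [hw, mul_sub, Finset.sum_sub_distrib]
      exact sub_eq_zero.2 hdeq
    rw [← Finset.add_sum_erase _ _ (Finset.mem_univ x),
      Finset.sum_eq_zero (s := univ.erase x) (fun y hy => by rw [mul_self_eq_zero.1 (hz y hy), mul_zero]),
      add_zero] at hd0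
    rcases mul_eq_zero.1 hd0 with h | h
    · exact hd x h
    · exact hne (sub_eq_zero.1 h)
  set S := univ.filter (fun x => u x ≠ 0 ∧ v x ≠ 0) with hS
  have hcard : dot u v = ∑ x ∈ S, (1 : ℤ) := by
    rw [Finset.sum_filter]
    refine Finset.sum_congr rfl fun x _ => ?_
    split_ifs with hx
    · rw [hsame x hx.1 hx.2]; exact entry_sq hv hx.2
    · rcases not_and_or.1 hx with h | h <;> simp [not_not.1 h]
  rw [huv, Finset.sum_const, nsmul_one] at hcard
  obtain ⟨x, hx⟩ := Finset.card_eq_one.1 (show S.card = 1 by exact_mod_cast hcard.symm)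
  have hxS : x ∈ S := hx ▸ Finset.mem_singleton_self x
  simp only [hS, Finset.mem_filter, Finset.mem_univ, true_and] at hxS
  refine ⟨x, hsame x hxS.1 hxS.2, hxS.1, fun y h1 h2 => ?_⟩
  have : y ∈ S := by simp [hS, h1, h2]
  rwa [hx, Finset.mem_singleton] at this

theorem rest_bound {u v : Ix → ℤ} (hu : dot u u = 3) (hv : dot v v = 3) (F : Finset Ix) :
    dot u v - ∑ x ∈ F, u x * v x ≤ 3 - ∑ x ∈ F, u x * u x ∧
      ∑ x ∈ F, u x * v x - dot u v ≤ 3 - ∑ x ∈ F, u x * u x := by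
  have h1 : dot u v - ∑ x ∈ F, u x * v x = ∑ x ∈ Fᶜ, u x * v x := by
    rw [dot, ← Finset.sum_add_sum_compl F]; ring
  have h2 : 3 - ∑ x ∈ F, u x * u x = ∑ x ∈ Fᶜ, u x * u x := by
    rw [← hu, dot, ← Finset.sum_add_sum_compl F]; ring
  have key : ∀ x, u x * v x ≤ u x * u x ∧ -(u x * v x) ≤ u x * u x := fun x => by
    have a := entry_bound hu x
    have c := entry_bound hv x
    rcases (by omega : u x = -1 ∨ u x = 0 ∨ u x = 1) with h | h | h <;> rw [h] <;> omega
  refine ⟨?_, ?_⟩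
  · rw [h1, h2]
    exact Finset.sum_le_sum fun x _ => (key x).1
  · rw [show ∑ x ∈ F, u x * v x - dot u v = -(dot u v - ∑ x ∈ F, u x * v x) by ring, h1, h2,
      ← Finset.sum_neg_distrib]
    exact Finset.sum_le_sum fun x _ => (key x).2

section Lines

variable {κ : Type*} (L u : κ → Ix → ℤ)
  (hL : ∀ j, dot (L j) (L j) = 3) (hsh : ∀ j k, j ≠ k → Share (L j) (L k))
  (hu : ∀ j, dot (u j) (u j) = 3) (huu : ∀ j k, j ≠ k → dot (u j) (u k) = 1)
  (huL : ∀ j, dot (u j) (L j) = 1) (huL0 : ∀ j k, j ≠ k → dot (u j) (L k) = 0)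

include hsh in
theorem eq_value {j k : κ} (hjk : j ≠ k) {x : Ix} (hj : L j x ≠ 0) (hk : L k x ≠ 0) :
    L j x = L k x := by
  obtain ⟨y, hy, -, huniq⟩ := hsh j k hjk
  rw [huniq x hj hk]
  exact hy

include hL hsh hu huu huL huL0 in
theorem no_star {j₁ j₂ j₃ t : κ} (h12 : j₁ ≠ j₂) (h13 : j₁ ≠ j₃) (h23 : j₂ ≠ j₃) (h1t : j₁ ≠ t)
    (h2t : j₂ ≠ t) (h3t : j₃ ≠ t) {p : Ix} (hp1 : L j₁ p ≠ 0) (hp2 : L j₂ p ≠ 0)
    (hp3 : L j₃ p ≠ 0) (hpt : L t p = 0) : False := by
  obtain ⟨a, ha, ha0, -⟩ := hsh t j₁ h1t.symm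
  obtain ⟨c, hc, hc0, -⟩ := hsh t j₂ h2t.symm
  obtain ⟨e, he, he0, -⟩ := hsh t j₃ h3t.symm
  have ha1 : L j₁ a ≠ 0 := ha ▸ ha0
  have hc2 : L j₂ c ≠ 0 := hc ▸ hc0
  have he3 : L j₃ e ≠ 0 := he ▸ he0
  have hpa : p ≠ a := fun h => ha0 (h ▸ hpt)
  have hpc : p ≠ c := fun h => hc0 (h ▸ hpt)
  have hpe : p ≠ e := fun h => he0 (h ▸ hpt)
  have only : ∀ {i k : κ}, i ≠ k → L i p ≠ 0 → L k p ≠ 0 → ∀ x, L i x ≠ 0 → L k x ≠ 0 → x = p := by
    intro i k hik hi hk x hxi hxk
    obtain ⟨y, -, -, huniq⟩ := hsh i k hik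
    rw [huniq x hxi hxk, huniq p hi hk]
  obtain ⟨b, hbp, hba, hb1, hs1⟩ := third (hL j₁) hpa hp1 ha1
  obtain ⟨d, hdp, hdc, hd2, hs2⟩ := third (hL j₂) hpc hp2 hc2
  obtain ⟨f, hfp, hfe, hf3, hs3⟩ := third (hL j₃) hpe hp3 he3
  have hac : a ≠ c := fun h => hpa (only h12 hp1 hp2 a ha1 (h ▸ hc2)).symm
  have hae : a ≠ e := fun h => hpa (only h13 hp1 hp3 a ha1 (h ▸ he3)).symm
  have hce : c ≠ e := fun h => hpc (only h23 hp2 hp3 c hc2 (h ▸ he3)).symm
  have had : a ≠ d := fun h => hpa (only h12 hp1 hp2 a ha1 (h ▸ hd2)).symm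
  have haf : a ≠ f := fun h => hpa (only h13 hp1 hp3 a ha1 (h ▸ hf3)).symm
  have hbc : b ≠ c := fun h => hbp (only h12 hp1 hp2 b hb1 (h ▸ hc2))
  have hbd : b ≠ d := fun h => hbp (only h12 hp1 hp2 b hb1 (h ▸ hd2))
  have hbe : b ≠ e := fun h => hbp (only h13 hp1 hp3 b hb1 (h ▸ he3))
  have hbf : b ≠ f := fun h => hbp (only h13 hp1 hp3 b hb1 (h ▸ hf3))
  have hcf : c ≠ f := fun h => hpc (only h23 hp2 hp3 c hc2 (h ▸ hf3)).symm
  have hde : d ≠ e := fun h => hdp (only h23 hp2 hp3 d hd2 (h ▸ he3))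
  have hdf : d ≠ f := fun h => hdp (only h23 hp2 hp3 d hd2 (h ▸ hf3))
  have hst := supp_of_three (hL t) hac hae hce ha0 hc0 he0
  set tup : κ → Star.Tup := fun k => ⟨u k p * L j₁ p, u k a * L j₁ a, u k b * L j₁ b,
    u k c * L j₂ c, u k d * L j₂ d, u k e * L j₃ e, u k f * L j₃ f⟩ with htup
  have e1 : ∀ k, (tup k).P + (tup k).A + (tup k).B = dot (u k) (L j₁) := fun k => by
    rw [dot_three (u k) hpa hbp.symm hba.symm hs1]
  have e2 : ∀ k, (tup k).P + (tup k).C + (tup k).D = dot (u k) (L j₂) := fun k => by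
    rw [dot_three (u k) hpc hdp.symm hdc.symm hs2, ← eq_value L hsh h12 hp1 hp2]
  have e3 : ∀ k, (tup k).P + (tup k).E + (tup k).F = dot (u k) (L j₃) := fun k => by
    rw [dot_three (u k) hpe hfp.symm hfe.symm hs3, ← eq_value L hsh h13 hp1 hp3]
  have e4 : ∀ k, (tup k).A + (tup k).C + (tup k).E = dot (u k) (L t) := fun k => by
    rw [dot_three (u k) hac hae hce hst, ha, hc, he]
  let g : Fin 7 → Ix := ![p, a, b, c, d, e, f]
  have hg : Function.Injective g := by
    intro i j h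
    fin_cases i <;> fin_cases j <;> simp_all [g]
  have hip : ∀ k k', Star.ip (tup k) (tup k') = ∑ x ∈ univ.map ⟨g, hg⟩, u k x * u k' x := by
    intro k k'
    rw [Finset.sum_map]
    simp only [Function.Embedding.coeFn_mk, Fin.sum_univ_succ, Fin.sum_univ_zero, g]
    simp only [Star.ip, htup, Matrix.cons_val_zero, Matrix.cons_val_succ]
    linear_combination u k p * u k' p * entry_sq (hL j₁) hp1 +
      u k a * u k' a * entry_sq (hL j₁) ha1 + u k b * u k' b * entry_sq (hL j₁) hb1 +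
      u k c * u k' c * entry_sq (hL j₂) hc2 + u k d * u k' d * entry_sq (hL j₂) hd2 +
      u k e * u k' e * entry_sq (hL j₃) he3 + u k f * u k' f * entry_sq (hL j₃) hf3
  have hbnd : ∀ (k : κ) (j : κ) (x : Ix), L j x ≠ 0 → -1 ≤ u k x * L j x ∧ u k x * L j x ≤ 1 := by
    intro k j x hx
    have := entry_bound (hu k) x
    rcases entry_pm (hL j) hx with h | h <;> rw [h] <;> omega
  have hrow : ∀ k t₁ t₂ t₃ t₄, dot (u k) (L j₁) = t₁ → dot (u k) (L j₂) = t₂ →
      dot (u k) (L j₃) = t₃ → dot (u k) (L t) = t₄ → Star.Row (tup k) t₁ t₂ t₃ t₄ := by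
    intro k t₁ t₂ t₃ t₄ q1 q2 q3 q4
    refine ⟨hbnd k _ _ hp1, hbnd k _ _ ha1, hbnd k _ _ hc2, hbnd k _ _ he3, (e1 k).trans q1,
      (e2 k).trans q2, (e3 k).trans q3, (e4 k).trans q4, ?_⟩
    rw [hip]
    exact (Finset.sum_le_univ_sum_of_nonneg fun x => mul_self_nonneg _).trans (hu k).le
  have hcompat : ∀ k k', k ≠ k' → Star.Compat (tup k) (tup k') := by
    intro k k' hkk
    obtain ⟨b1, b2⟩ := rest_bound (hu k) (hu k') (univ.map ⟨g, hg⟩)
    obtain ⟨b3, b4⟩ := rest_bound (hu k') (hu k) (univ.map ⟨g, hg⟩)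
    rw [huu k k' hkk, ← hip, ← hip] at b1 b2
    rw [huu k' k hkk.symm, ← hip, ← hip] at b3 b4
    rw [show Star.ip (tup k') (tup k) = Star.ip (tup k) (tup k') by simp only [Star.ip]; ring]
      at b3 b4
    exact ⟨b1, b2, b3, b4⟩
  exact Star.no_star (tup j₁) (tup j₂) (tup j₃) (tup t)
    (hrow _ _ _ _ _ (huL j₁) (huL0 _ _ h12) (huL0 _ _ h13) (huL0 _ _ h1t))
    (hrow _ _ _ _ _ (huL0 _ _ h12.symm) (huL j₂) (huL0 _ _ h23) (huL0 _ _ h2t))
    (hrow _ _ _ _ _ (huL0 _ _ h13.symm) (huL0 _ _ h23.symm) (huL j₃) (huL0 _ _ h3t))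
    (hrow _ _ _ _ _ (huL0 _ _ h1t.symm) (huL0 _ _ h2t.symm) (huL0 _ _ h3t.symm) (huL t))
    (hcompat _ _ h12) (hcompat _ _ h13) (hcompat _ _ h23) (hcompat _ _ h1t) (hcompat _ _ h2t)
    (hcompat _ _ h3t)

include hL hsh hu huu huL huL0 in
theorem exists_common [Fintype κ] (hcard : Fintype.card κ = 2 ∨ 4 ≤ Fintype.card κ) :
    ∃ x, ∀ j, L j x ≠ 0 := by
  classical
  rcases hcard with h2 | h4
  · obtain ⟨j, k, hjk, huniv⟩ := Finset.card_eq_two.1 (Finset.card_univ.trans h2)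
    obtain ⟨x, hx, hx0, -⟩ := hsh j k hjk
    refine ⟨x, fun i => ?_⟩
    have hi : i ∈ ({j, k} : Finset κ) := huniv ▸ Finset.mem_univ i
    simp only [Finset.mem_insert, Finset.mem_singleton] at hi
    rcases hi with rfl | rfl
    · exact hx0
    · exact hx ▸ hx0
  by_contra hno
  push Not at hno
  haveI : Nontrivial κ := Fintype.one_lt_card_iff_nontrivial.1 (by omega)
  obtain ⟨j₁, j₂, h12⟩ := exists_pair_ne κ
  obtain ⟨p, hp, hp1, hpu⟩ := hsh j₁ j₂ h12
  have hp2 : L j₂ p ≠ 0 := hp ▸ hp1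
  obtain ⟨j₃, hp3⟩ := hno p
  have h13 : j₁ ≠ j₃ := fun h => hp1 (h ▸ hp3)
  have h23 : j₂ ≠ j₃ := fun h => hp2 (h ▸ hp3)
  obtain ⟨q, hq, hq1, hqu⟩ := hsh j₁ j₃ h13
  have hq3 : L j₃ q ≠ 0 := hq ▸ hq1
  obtain ⟨r, hr, hr2, hru⟩ := hsh j₂ j₃ h23
  have hr3 : L j₃ r ≠ 0 := hr ▸ hr2
  have hpq : p ≠ q := fun h => hq3 (h ▸ hp3)
  have hpr : p ≠ r := fun h => hr3 (h ▸ hp3)
  have hq2 : L j₂ q = 0 := by
    by_contra h
    exact hpq (hpu q hq1 h).symm
  have hr1 : L j₁ r = 0 := by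
    by_contra h
    exact hpr (hpu r h hr2).symm
  obtain ⟨j₄, hj₄⟩ : ∃ j₄, j₄ ∉ ({j₁, j₂, j₃} : Finset κ) := by
    by_contra hall
    push Not at hall
    have hle := (Finset.card_le_card (fun k (_ : k ∈ Finset.univ) => hall k)).trans
      Finset.card_le_three
    rw [Finset.card_univ] at hle
    omega
  simp only [Finset.mem_insert, Finset.mem_singleton, not_or] at hj₄
  have h41 : j₄ ≠ j₁ := hj₄.1
  have h42 : j₄ ≠ j₂ := hj₄.2.1
  have h43 : j₄ ≠ j₃ := hj₄.2.2
  by_cases cp : L j₄ p ≠ 0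
  · exact no_star L u hL hsh hu huu huL huL0 h12 h41.symm h42.symm h13 h23 h43 hp1 hp2 cp hp3
  by_cases cq : L j₄ q ≠ 0
  · exact no_star L u hL hsh hu huu huL huL0 h13 h41.symm h43.symm h12 h23.symm h42 hq1 hq3 cq hq2
  by_cases cr : L j₄ r ≠ 0
  · exact no_star L u hL hsh hu huu huL huL0 h23 h42.symm h43.symm h12.symm h13.symm h41 hr2 hr3 cr
      hr1
  rw [not_not] at cp cq cr
  obtain ⟨a, ha, ha1, -⟩ := hsh j₁ j₄ h41.symm
  have ha4 : L j₄ a ≠ 0 := ha ▸ ha1
  obtain ⟨c, hc, hc2, -⟩ := hsh j₂ j₄ h42.symm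
  have hc4 : L j₄ c ≠ 0 := hc ▸ hc2
  obtain ⟨e, he, he3, -⟩ := hsh j₃ j₄ h43.symm
  have he4 : L j₄ e ≠ 0 := he ▸ he3
  have hpa : p ≠ a := fun h => ha4 (h ▸ cp)
  have hqa : q ≠ a := fun h => ha4 (h ▸ cq)
  have hpc : p ≠ c := fun h => hc4 (h ▸ cp)
  have hrc : r ≠ c := fun h => hc4 (h ▸ cr)
  have hqe : q ≠ e := fun h => he4 (h ▸ cq)
  have hre : r ≠ e := fun h => he4 (h ▸ cr)
  have hac : a ≠ c := fun h => hpa (hpu a ha1 (h ▸ hc2)).symm
  have hae : a ≠ e := fun h => hqa (hqu a ha1 (h ▸ he3)).symm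
  have hce : c ≠ e := fun h => hrc (hru c hc2 (h ▸ he3)).symm
  have hqr : q ≠ r := fun h => hq1 (h ▸ hr1)
  have s1 := supp_of_three (hL j₁) hpq hpa hqa hp1 hq1 ha1
  have s2 := supp_of_three (hL j₂) hpr hpc hrc hp2 hr2 hc2
  have s3 := supp_of_three (hL j₃) hqr hqe hre hq3 hr3 he3
  have s4 := supp_of_three (hL j₄) hac hae hce ha4 hc4 he4
  have o1 := dot_three (u j₁) hpq hpa hqa s1
  have o2 := dot_three (u j₁) hpr hpc hrc s2
  have o3 := dot_three (u j₁) hqr hqe hre s3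
  have o4 := dot_three (u j₁) hac hae hce s4
  rw [huL j₁] at o1
  rw [huL0 j₁ j₂ h12, ← hp] at o2
  rw [huL0 j₁ j₃ h13, ← hq, ← hr] at o3
  rw [huL0 j₁ j₄ h41.symm, ← ha, ← hc, ← he] at o4
  omega

end Lines

variable {ι κ : Type*} [Fintype ι] [Fintype κ]

/-- The hypotheses on a grid. -/
structure IsGrid (d : Ix → ℤ) (v : ι → κ → Ix → ℤ) : Prop where
  ne_zero : ∀ x, d x ≠ 0
  norm : ∀ i j, dot (v i j) (v i j) = 3
  row : ∀ i j k, j ≠ k → dot (v i j) (v i k) = 1
  col : ∀ i i' j, i ≠ i' → dot (v i j) (v i' j) = 1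
  cross : ∀ i i' j k, i ≠ i' → j ≠ k → dot (v i j) (v i' k) = 0
  weight : ∀ i j, dot d (v i j) = -1

theorem IsGrid.transpose {d : Ix → ℤ} {v : ι → κ → Ix → ℤ} (h : IsGrid d v) :
    IsGrid d (fun j i => v i j) :=
  ⟨h.ne_zero, fun j i => h.norm i j, fun j i i' hi => h.col i i' j hi,
    fun j k i hj => h.row i j k hj, fun _ _ i i' hj hi => h.cross i i' _ _ hi hj,
    fun j i => h.weight i j⟩

theorem IsGrid.exists_common {d : Ix → ℤ} {v : ι → κ → Ix → ℤ} (h : IsGrid d v)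
    (hι : 2 ≤ Fintype.card ι) (hκ : Fintype.card κ = 2 ∨ 4 ≤ Fintype.card κ) (i : ι) :
    ∃ x, ∀ j, v i j x ≠ 0 := by
  obtain ⟨i', hi'⟩ := Fintype.exists_ne_of_one_lt_card (by omega : 1 < Fintype.card ι) i
  exact Grid.exists_common (fun j => v i j) (fun j => v i' j) (fun j => h.norm i j)
    (fun j k hjk => share_of_dot h.ne_zero (h.norm i j) (h.norm i k) (h.row i j k hjk)
      (by rw [h.weight, h.weight]))
    (fun j => h.norm i' j) (fun j k hjk => h.row i' j k hjk) (fun j => h.col i' i j hi')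
    (fun j k hjk => h.cross i' i j k hi' hjk) hκ

theorem IsGrid.eq_row {d : Ix → ℤ} {v : ι → κ → Ix → ℤ} (h : IsGrid d v) {i : ι} {j k : κ}
    (hjk : j ≠ k) {x : Ix} (hj : v i j x ≠ 0) (hk : v i k x ≠ 0) :
    v i j x = v i k x ∧ ∀ y, v i j y ≠ 0 → v i k y ≠ 0 → y = x := by
  obtain ⟨z, hz, -, hu⟩ := share_of_dot h.ne_zero (h.norm i j) (h.norm i k) (h.row i j k hjk)
    (by rw [h.weight, h.weight])
  obtain rfl := hu x hj hk
  exact ⟨hz, hu⟩

/-- The labelling of a grid. -/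
theorem IsGrid.exists_labels {d : Ix → ℤ} {v : ι → κ → Ix → ℤ} (h : IsGrid d v)
    (hι : Fintype.card ι = 2 ∨ 4 ≤ Fintype.card ι) (hκ : 4 ≤ Fintype.card κ) :
    ∃ (c : ι → Ix) (b : κ → Ix) (e : ι → κ → Ix) (sc : ι → ℤ) (sb : κ → ℤ) (se : ι → κ → ℤ),
      Function.Injective c ∧ Function.Injective b ∧
      Function.Injective (fun z : ι × κ => e z.1 z.2) ∧ (∀ i j, c i ≠ b j) ∧
      (∀ i i' j, c i ≠ e i' j) ∧ (∀ i j j', b j ≠ e i j') ∧
      (∀ i, sc i = 1 ∨ sc i = -1) ∧ (∀ j, sb j = 1 ∨ sb j = -1) ∧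
      (∀ i j, se i j = 1 ∨ se i j = -1) ∧
      (∀ i j, v i j (c i) = sc i ∧ v i j (b j) = sb j ∧ v i j (e i j) = se i j) ∧
      ∀ i j, v i j = Pi.single (c i) (sc i) + Pi.single (b j) (sb j) + Pi.single (e i j) (se i j) := by
  classical
  have hι2 : 2 ≤ Fintype.card ι := by omega
  have hκ2 : 2 ≤ Fintype.card κ := by omega
  choose c hc using fun i => h.exists_common hι2 (Or.inr hκ) i
  choose b hb using fun j => h.transpose.exists_common hκ2 hι j
  obtain ⟨i₀⟩ : Nonempty ι := Fintype.card_pos_iff.1 (by omega)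
  obtain ⟨j₀⟩ : Nonempty κ := Fintype.card_pos_iff.1 (by omega)
  have only_row : ∀ i {j k : κ}, j ≠ k → ∀ {x}, v i j x ≠ 0 → v i k x ≠ 0 → x = c i :=
    fun i j k hjk x hj hk => (h.eq_row hjk (hc i j) (hc i k)).2 x hj hk
  have only_col : ∀ j {i i' : ι}, i ≠ i' → ∀ {x}, v i j x ≠ 0 → v i' j x ≠ 0 → x = b j :=
    fun j i i' hii x hi hi' => (h.transpose.eq_row hii (hb j i) (hb j i')).2 x hi hi'
  have hcb : ∀ i j, c i ≠ b j := by
    intro i j heq
    obtain ⟨i', hi'⟩ := Fintype.exists_ne_of_one_lt_card (by omega : 1 < Fintype.card ι) i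
    have hq : ∀ k : {k : κ // k ≠ j}, ∃ x, x ≠ c i ∧ v i' j x ≠ 0 ∧ v i k.1 x ≠ 0 := by
      rintro ⟨k, hk⟩
      by_contra hno
      push Not at hno
      have h0 := h.cross i' i j k hi' hk.symm
      rw [dot, Finset.sum_eq_single (c i)] at h0
      · rcases mul_eq_zero.1 h0 with h1 | h1
        · exact hb j i' (heq ▸ h1)
        · exact hc i k h1
      · intro x _ hx
        by_cases h1 : v i' j x = 0
        · simp [h1]
        · simp [hno x hx h1]
      · simp
    choose q hq1 hq2 hq3 using hq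
    have hinj : Function.Injective q := by
      intro k k' hkk
      by_contra hne
      exact hq1 k (only_row i (fun e => hne (Subtype.ext e)) (hq3 k) (hkk ▸ hq3 k'))
    have hle : Fintype.card {k : κ // k ≠ j} ≤
        ((univ.filter fun x => v i' j x ≠ 0).erase (c i)).card := by
      rw [← Finset.card_univ]
      exact Finset.card_le_card_of_injOn q
        (fun k _ => by simp [hq1 k, hq2 k]) hinj.injOn
    rw [Finset.card_erase_of_mem (by simpa [heq] using hb j i'), supp_card (h.norm i' j),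
      Fintype.card_subtype_compl, Fintype.card_subtype_eq] at hle
    omega
  choose e he1 he2 he0 heall using fun i j => third (h.norm i j) (hcb i j) (hc i j) (hb j i)
  have hcinj : Function.Injective c := by
    intro i i' hii
    by_contra hne
    exact hcb i j₀ (only_col j₀ hne (hc i j₀) (hii ▸ hc i' j₀))
  have hbinj : Function.Injective b := by
    intro j j' hjj
    by_contra hne
    exact hcb i₀ j (only_row i₀ hne (hb j i₀) (hjj ▸ hb j' i₀)).symm
  have hce : ∀ i i' j, c i ≠ e i' j := by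
    intro i i' j heq
    by_cases hii : i = i'
    · exact he1 i' j (heq.symm.trans (congrArg c hii))
    · exact hcb i j (only_col j hii (hc i j) (heq ▸ he0 i' j))
  have hbe : ∀ i j j', b j ≠ e i j' := by
    intro i j j' heq
    by_cases hjj : j = j'
    · exact he2 i j' (heq.symm.trans (congrArg b hjj))
    · exact hcb i j (only_row i hjj (hb j i) (heq ▸ he0 i j')).symm
  have heinj : Function.Injective (fun z : ι × κ => e z.1 z.2) := by
    rintro ⟨i, j⟩ ⟨i', j'⟩ (heq : e i j = e i' j')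
    by_contra hne
    rw [Prod.mk.injEq] at hne
    by_cases hii : i = i'
    · subst hii
      exact he1 i j (only_row i (fun e => hne ⟨rfl, e⟩) (he0 i j) (heq ▸ he0 i j'))
    by_cases hjj : j = j'
    · subst hjj
      exact he2 i j (only_col j hii (he0 i j) (heq ▸ he0 i' j))
    have h0 := h.cross i i' j j' hii hjj
    rw [dot, Finset.sum_eq_single (e i j)] at h0
    · rcases mul_eq_zero.1 h0 with h1 | h1
      · exact he0 i j h1
      · exact he0 i' j' (heq ▸ h1)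
    · intro x _ hx
      by_contra hprod
      rw [mul_eq_zero, not_or] at hprod
      rcases heall i j x hprod.1 with rfl | rfl | rfl <;>
        rcases heall i' j' _ hprod.2 with h1 | h1 | h1
      · exact hii (hcinj h1)
      · exact hcb i j' h1
      · exact hce i i' j' h1
      · exact hcb i' j h1.symm
      · exact hjj (hbinj h1)
      · exact hbe i' j j' h1
      · exact hx rfl
      · exact hx rfl
      · exact hx rfl
    · simp
  refine ⟨c, b, e, fun i => v i j₀ (c i), fun j => v i₀ j (b j), fun i j => v i j (e i j),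
    hcinj, hbinj, heinj, hcb, hce, hbe, fun i => entry_pm (h.norm i j₀) (hc i j₀),
    fun j => entry_pm (h.norm i₀ j) (hb j i₀), fun i j => entry_pm (h.norm i j) (he0 i j), ?_, ?_⟩
  case refine_1 =>
    intro i j
    refine ⟨?_, ?_, rfl⟩
    · by_cases hj : j = j₀
      · rw [hj]
      · exact (h.eq_row hj (hc i j) (hc i j₀)).1
    · by_cases hi : i = i₀
      · rw [hi]
      · exact (h.transpose.eq_row hi (hb j i) (hb j i₀)).1
  intro i j
  have vc : v i j (c i) = v i j₀ (c i) := by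
    by_cases hj : j = j₀
    · rw [hj]
    · exact (h.eq_row hj (hc i j) (hc i j₀)).1
  have vb : v i j (b j) = v i₀ j (b j) := by
    by_cases hi : i = i₀
    · rw [hi]
    · exact (h.transpose.eq_row hi (hb j i) (hb j i₀)).1
  funext x
  simp only [Pi.add_apply]
  by_cases h1 : x = c i
  · subst h1
    simp [vc, hcb i j, hce i i j]
  by_cases h2 : x = b j
  · subst h2
    simp [vb, (hcb i j).symm, hbe i j j]
  by_cases h3 : x = e i j
  · subst h3
    simp [(hce i i j).symm, (hbe i j j).symm]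
  · simp only [Pi.single_eq_of_ne h1, Pi.single_eq_of_ne h2, Pi.single_eq_of_ne h3, add_zero]
    by_contra hx
    rcases heall i j x hx with rfl | rfl | rfl
    · exact h1 rfl
    · exact h2 rfl
    · exact h3 rfl

end Cfsg.Agent.Lib.CyclicTI.Grid
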