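import Cfsg.Agent.Lib.CyclicTI.Basic
import Cfsg.Agent.Lib.CyclicTI.Grid
import Cfsg.Agent.Lib.BC78.PowChar

/-!
# The family of characters attached to a cyclic self-normalising subgroup
-/

set_option autoImplicit false
set_option linter.style.haveILetI false

namespace Cfsg.Agent.Lib.CyclicTI

open scoped ComplexConjugate
open Cfsg.Agent.Lib.Induced.Basic Cfsg.Agent.Lib.Characters.Basic
open Cfsg.Agent.Lib.Characters.Complete Cfsg.Agent.Lib.Characters.Linear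

universe u

variable {G : Type u} [Group G] [Fintype G] {W₁ W₂ : Subgroup G}

theorem classInner_eq_dot [Fintype (Cfsg.IrrCharacter G)] {γ γ' : G → ℂ}
    (hγ : Cfsg.IsClassFunction G γ) {v v' : Cfsg.IrrCharacter G → ℤ}
    (hv : ∀ χ : Cfsg.IrrCharacter G, Cfsg.classInner γ χ = (v χ : ℂ))
    (hv' : ∀ χ : Cfsg.IrrCharacter G, Cfsg.classInner γ' χ = (v' χ : ℂ)) :
    Cfsg.classInner γ γ' = ((Grid.dot v v' : ℤ) : ℂ) := by
  have h : γ = ∑ χ : Cfsg.IrrCharacter G, (v χ : ℂ) • (χ : G → ℂ) := by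
    conv_lhs => rw [classFunction_eq_sum hγ]
    exact Finset.sum_congr rfl fun χ _ => by rw [hv]
  rw [h, classInner_sum_left, Grid.dot, Int.cast_sum]
  refine Finset.sum_congr rfl fun χ _ => ?_
  rw [classInner_smul_left, ← classInner_conj_symm, hv', Int.cast_mul, map_intCast]

theorem odd_factors (hodd : Odd (Nat.card ↥(W₁ ⊔ W₂))) :
    Odd (Nat.card W₁) ∧ Odd (Nat.card W₂) :=
  ⟨hodd.of_dvd_nat (Subgroup.card_dvd_of_le le_sup_left),
    hodd.of_dvd_nat (Subgroup.card_dvd_of_le le_sup_right)⟩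

theorem three_le_card {X : Subgroup G} (hne : X ≠ ⊥) (hodd : Odd (Nat.card X)) :
    3 ≤ Nat.card X := by
  have h1 : Nat.card X ≠ 1 := fun h => hne (Subgroup.card_eq_one.1 h)
  obtain ⟨k, hk⟩ := hodd
  omega

theorem card_isQ (hW : Cfsg.IsSelfNormalizingCyclic W₁ W₂) [Fintype (↥(W₁ ⊔ W₂) →* ℂˣ)]
    [DecidablePred (IsQ (W₁ := W₁) (W₂ := W₂))] :
    (Finset.univ.filter fun φ : ↥(W₁ ⊔ W₂) →* ℂˣ => IsQ φ).card = Nat.card W₂ := by
  classical
  haveI := Fintype.ofFinite ↥(W₁ ⊔ W₂)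
  set S := Finset.univ.filter fun φ : ↥(W₁ ⊔ W₂) →* ℂˣ => IsQ φ
  set P := Finset.univ.filter fun φ : ↥(W₁ ⊔ W₂) →* ℂˣ => IsP φ
  have hP : P.card = Nat.card W₁ := card_isP hW
  have h1 : ∀ φ : ↥(W₁ ⊔ W₂) →* ℂˣ, ∑ u : ↥(W₁ ⊔ W₂), (φ u : ℂ) =
      if φ = 1 then (Nat.card ↥(W₁ ⊔ W₂) : ℂ) else 0 := by
    intro φ
    have h := classInner_lin φ (1 : ↥(W₁ ⊔ W₂) →* ℂˣ)
    rw [Cfsg.classInner] at h
    simp only [lin, MonoidHom.one_apply, Units.val_one, map_one, mul_one] at h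
    rw [inv_mul_eq_iff_eq_mul₀ natCard_ne_zero] at h
    rw [h]
    split_ifs <;> simp
  have h2 : ∑ φ ∈ S, ∑ u : ↥(W₁ ⊔ W₂), (φ u : ℂ) = (Nat.card ↥(W₁ ⊔ W₂) : ℂ) := by
    simp only [h1]
    rw [Finset.sum_ite_eq' S, if_pos (by simp [S, isQ_one])]
  have h4 : ∀ u : ↥(W₁ ⊔ W₂), ∑ φ ∈ S, (φ u : ℂ) = if (u : G) ∈ W₁ then (S.card : ℂ) else 0 :=
    fun u => by convert sum_isQ hW u
  rw [Finset.sum_comm, Finset.sum_congr rfl fun u _ => h4 u, ← Finset.sum_filter,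
    Finset.sum_const, nsmul_eq_mul] at h2
  have hW₁ : (Finset.univ.filter fun u : ↥(W₁ ⊔ W₂) => (u : G) ∈ W₁).card = Nat.card W₁ := by
    rw [← Fintype.card_subtype, ← Nat.card_eq_fintype_card]
    exact Nat.card_congr ⟨fun u => ⟨u.1, u.2⟩, fun a => ⟨inl a.2, a.2⟩, fun _ => rfl, fun _ => rfl⟩
  have hWcard : Nat.card ↥(W₁ ⊔ W₂) = Nat.card W₁ * Nat.card W₂ := by
    rw [← Nat.card_prod]
    obtain ⟨π₁, π₂, hπ⟩ := exists_proj hW
    refine (Nat.card_congr (Equiv.ofBijective (fun z : W₁ × W₂ => inl z.1.2 * inr z.2.2) ⟨?_, ?_⟩)).symm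
    · intro z z' h
      have e : (z.1 : G) * z.2 = z'.1 * z'.2 := congrArg Subtype.val h
      have hd : (z'.1 : G)⁻¹ * z.1 = 1 := eq_one_of_mem hW (W₁.mul_mem (W₁.inv_mem z'.1.2) z.1.2)
        (by rw [eq_mul_inv_of_mul_eq e, mul_assoc, inv_mul_cancel_left]
            exact W₂.mul_mem z'.2.2 (W₂.inv_mem z.2.2))
      have e₁ : (z.1 : G) = z'.1 := (inv_mul_eq_one.1 hd).symm
      rw [e₁] at e
      exact Prod.ext (Subtype.ext e₁) (Subtype.ext (mul_left_cancel e))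
    · intro w
      exact ⟨(⟨π₁ w, (hπ w).2.1⟩, ⟨π₂ w, (hπ w).2.2⟩), (hπ w).1.symm⟩
  rw [hW₁, hWcard] at h2
  have h3 : Nat.card W₁ * S.card = Nat.card W₁ * Nat.card W₂ := by exact_mod_cast h2
  exact Nat.eq_of_mul_eq_mul_left Nat.card_pos h3

/-- Labels of a grid, in either orientation. -/
theorem exists_labels {Ix ι κ : Type*} [Fintype Ix] [DecidableEq Ix] [Fintype ι] [Fintype κ]
    {d : Ix → ℤ} {v : ι → κ → Ix → ℤ} (h : Grid.IsGrid d v)
    (hι : Fintype.card ι = 2 ∨ 4 ≤ Fintype.card ι) (hκ : Fintype.card κ = 2 ∨ 4 ≤ Fintype.card κ)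
    (hne : ¬ (Fintype.card ι = 2 ∧ Fintype.card κ = 2)) :
    ∃ (c : ι → Ix) (b : κ → Ix) (e : ι → κ → Ix) (sc : ι → ℤ) (sb : κ → ℤ) (se : ι → κ → ℤ),
      Function.Injective c ∧ Function.Injective b ∧
      Function.Injective (fun z : ι × κ => e z.1 z.2) ∧ (∀ i j, c i ≠ b j) ∧
      (∀ i i' j, c i ≠ e i' j) ∧ (∀ i j j', b j ≠ e i j') ∧
      (∀ i, sc i = 1 ∨ sc i = -1) ∧ (∀ j, sb j = 1 ∨ sb j = -1) ∧
      (∀ i j, se i j = 1 ∨ se i j = -1) ∧
      (∀ i j, v i j (c i) = sc i ∧ v i j (b j) = sb j ∧ v i j (e i j) = se i j) ∧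
      ∀ i j, v i j = Pi.single (c i) (sc i) + Pi.single (b j) (sb j) + Pi.single (e i j) (se i j) := by
  by_cases h4 : 4 ≤ Fintype.card κ
  · exact h.exists_labels hι h4
  have h4' : 4 ≤ Fintype.card ι := hι.resolve_left fun h2 => hne ⟨h2, hκ.resolve_right h4⟩
  obtain ⟨c, b, e, sc, sb, se, i1, i2, i3, n1, n2, n3, p1, p2, p3, hval, hv⟩ :=
    h.transpose.exists_labels hκ h4'
  refine ⟨b, c, fun i j => e j i, sb, sc, fun i j => se j i, i2, i1, ?_, fun i j => (n1 j i).symm,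
    fun i i' j => n3 j i i', fun i j j' => n2 j j' i, p2, p1, fun i j => p3 j i,
    fun i j => ⟨(hval j i).2.1, (hval j i).1, (hval j i).2.2⟩, fun i j => ?_⟩
  · rintro ⟨i, j⟩ ⟨i', j'⟩ hh
    have := i3 (a₁ := (j, i)) (a₂ := (j', i')) hh
    simp only [Prod.mk.injEq] at this
    simp [this.1, this.2]
  · rw [hv j i]
    abel

/-- The value of an optional nontrivial character. -/
def optVal {p : (↥(W₁ ⊔ W₂) →* ℂˣ) → Prop} (o : Option {φ // p φ}) : ↥(W₁ ⊔ W₂) →* ℂˣ :=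
  o.elim 1 Subtype.val

theorem exists_family (hW : Cfsg.IsSelfNormalizingCyclic W₁ W₂)
    (hodd : Odd (Nat.card ↥(W₁ ⊔ W₂))) :
    ∃ χ : (↥(W₁ ⊔ W₂) →* ℂˣ) → (G → ℂ), Cfsg.IsCyclicTIFamily W₁ W₂ χ := by
  classical
  haveI := Fintype.ofFinite ↥(W₁ ⊔ W₂)
  haveI := Fintype.ofFinite (Cfsg.IrrCharacter G)
  haveI := finite_hom (G := G) (W₁ := W₁) (W₂ := W₂)
  haveI := Fintype.ofFinite (↥(W₁ ⊔ W₂) →* ℂˣ)
  let ι := {φ : ↥(W₁ ⊔ W₂) →* ℂˣ // IsP φ ∧ φ ≠ 1}
  let κ := {ψ : ↥(W₁ ⊔ W₂) →* ℂˣ // IsQ ψ ∧ ψ ≠ 1}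
  let γ : ι → κ → G → ℂ := fun i j =>
    Cfsg.indFun (W₁ ⊔ W₂) (beta i.1 j.1) - fun _ => 1
  have hgen : ∀ i j, Cfsg.IsGeneralizedCharacter G (γ i j) := fun i j =>
    Characters.Generalized.sub (isGeneralized_indFun_beta _ _)
      (Characters.Generalized.of_isCharacter (isCharacter_irr (oneChar G)))
  have hco : ∀ i j (χ : Cfsg.IrrCharacter G), ∃ z : ℤ, Cfsg.classInner (γ i j) χ = z :=
    fun i j χ => Characters.Generalized.exists_classInner_int (hgen i j)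
      (Characters.Generalized.of_isCharacter (isCharacter_irr χ))
  choose v hv using hco
  have hcl : ∀ i j, Cfsg.IsClassFunction G (γ i j) := fun i j =>
    Characters.Generalized.isClassFunction (hgen i j)
  have hip : ∀ (i i' : ι) (j j' : κ), ((Grid.dot (v i j) (v i' j') : ℤ) : ℂ) =
      (if i = i' then 1 else 0) + (if j = j' then 1 else 0) +
        (if i = i' then 1 else 0) * (if j = j' then 1 else 0) := by
    intro i i' j j'
    rw [← classInner_eq_dot (hcl i j) (hv i j) (hv i' j')]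
    have h1 : Cfsg.classInner (fun _ : G => (1 : ℂ))
        (Cfsg.indFun (W₁ ⊔ W₂) (beta i'.1 j'.1)) = 1 := by
      rw [← classInner_conj_symm, classInner_indFun_beta_one hW i'.2.1 j'.2.1 i'.2.2 j'.2.2,
        map_one]
    have h11 : Cfsg.classInner (fun _ : G => (1 : ℂ)) (fun _ : G => (1 : ℂ)) = 1 :=
      classInner_self_irr (oneChar G)
    simp only [γ, classInner_sub_left, classInner_sub_right,
      classInner_indFun_beta hW i.2.1 j.2.1 i'.2.1 j'.2.1,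
      classInner_beta_beta i.2.1 i'.2.1 j.2.1 j'.2.1 i.2.2 i'.2.2 j.2.2 j'.2.2,
      classInner_indFun_beta_one hW i.2.1 j.2.1 i.2.2 j.2.2, h1, h11]
    have ei : (i.1 = i'.1) ↔ i = i' := Subtype.ext_iff.symm
    have ej : (j.1 = j'.1) ↔ j = j' := Subtype.ext_iff.symm
    simp only [ei, ej]
    ring
  choose deg hdegpos hdeg using fun χ : Cfsg.IrrCharacter G => exists_degree_pos χ
  have hgrid : Grid.IsGrid (fun χ => (deg χ : ℤ)) v := by
    refine ⟨fun χ => by exact_mod_cast (hdegpos χ).ne', fun i j => ?_, fun i j k hjk => ?_,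
      fun i i' j hii => ?_, fun i i' j k hii hjk => ?_, fun i j => ?_⟩
    · have h := hip i i j j
      rw [if_pos rfl, if_pos rfl] at h
      norm_num at h
      exact_mod_cast h
    · have h := hip i i j k
      rw [if_pos rfl, if_neg hjk] at h
      norm_num at h
      exact_mod_cast h
    · have h := hip i i' j j
      rw [if_neg hii, if_pos rfl] at h
      norm_num at h
      exact_mod_cast h
    · have h := hip i i' j k
      rw [if_neg hii, if_neg hjk] at h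
      norm_num at h
      exact_mod_cast h
    · have h := congrFun (classFunction_eq_sum (hcl i j)) 1
      rw [Finset.sum_apply] at h
      have h1 : γ i j 1 = -1 := by
        simp [γ, indFun_one, beta]
      rw [h1] at h
      have h2 : ((Grid.dot (fun χ => (deg χ : ℤ)) (v i j) : ℤ) : ℂ) = -1 := by
        rw [h, Grid.dot]
        push_cast
        refine Finset.sum_congr rfl fun χ _ => ?_
        rw [Pi.smul_apply, smul_eq_mul, hv, hdeg, mul_comm]
      exact_mod_cast h2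
  have hone : ∀ i j, v i j (oneChar G) = 0 := by
    intro i j
    have h := hv i j (oneChar G)
    simp only [γ, classInner_sub_left] at h
    rw [show ((oneChar G : Cfsg.IrrCharacter G) : G → ℂ) = fun _ => 1 from rfl,
      classInner_indFun_beta_one hW i.2.1 j.2.1 i.2.2 j.2.2,
      show Cfsg.classInner (fun _ : G => (1 : ℂ)) (fun _ : G => (1 : ℂ)) = 1 from
        classInner_self_irr (oneChar G), sub_self] at h
    exact_mod_cast h.symm
  have hcard : ∀ (p : (↥(W₁ ⊔ W₂) →* ℂˣ) → Prop) [DecidablePred p], p 1 →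
      Fintype.card {φ // p φ ∧ φ ≠ 1} + 1 = (Finset.univ.filter p).card := by
    intro p _ hp1
    rw [Fintype.card_subtype,
      show (Finset.univ.filter fun φ => p φ ∧ φ ≠ 1) = (Finset.univ.filter p).erase 1 by
        ext φ; simp [and_comm],
      Finset.card_erase_add_one (by simp [hp1])]
  have hι : Fintype.card ι + 1 = Nat.card W₁ := (hcard _ isP_one).trans (card_isP hW)
  have hκ : Fintype.card κ + 1 = Nat.card W₂ := (hcard _ isQ_one).trans (card_isQ hW)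
  obtain ⟨ho1, ho2⟩ := odd_factors hodd
  have t1 := three_le_card hW.1 ho1
  have t2 := three_le_card hW.2.1 ho2
  obtain ⟨m, hm⟩ := ho1
  obtain ⟨n, hn⟩ := ho2
  have hne := card_ne_card hW
  obtain ⟨i₀⟩ : Nonempty ι := Fintype.card_pos_iff.1 (by omega)
  obtain ⟨j₀⟩ : Nonempty κ := Fintype.card_pos_iff.1 (by omega)
  obtain ⟨c, b, e, sc, sb, se, ic, ib, ie, ncb, nce, nbe, psc, psb, pse, hval, hv'⟩ :=
    exists_labels hgrid (by omega) (by omega) (by omega)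
  have n1c : ∀ i, oneChar G ≠ c i := fun i h => by
    have := (hval i j₀).1
    rw [← h, hone] at this
    rcases psc i with q | q <;> omega
  have n1b : ∀ j, oneChar G ≠ b j := fun j h => by
    have := (hval i₀ j).2.1
    rw [← h, hone] at this
    rcases psb j with q | q <;> omega
  have n1e : ∀ i j, oneChar G ≠ e i j := fun i j h => by
    have := (hval i j).2.2
    rw [← h, hone] at this
    rcases pse i j with q | q <;> omega
  let T : Option ι × Option κ → (↥(W₁ ⊔ W₂) →* ℂˣ) := fun z => optVal z.1 * optVal z.2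
  have hvP : ∀ o : Option ι, IsP (optVal o) := by
    rintro (_ | i)
    · exact isP_one
    · exact i.2.1
  have hvQ : ∀ o : Option κ, IsQ (optVal o) := by
    rintro (_ | i)
    · exact isQ_one
    · exact i.2.1
  have hTinj : Function.Injective T := by
    rintro ⟨o, o'⟩ ⟨q, q'⟩ h
    obtain ⟨h1, h2⟩ := pair_inj (hvP o) (hvP q) (hvQ o') (hvQ q') h
    congr
    · rcases o with _ | i <;> rcases q with _ | k
      · rfl
      · exact absurd h1.symm k.2.2
      · exact absurd h1 i.2.2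
      · exact congrArg some (Subtype.ext h1)
    · rcases o' with _ | i <;> rcases q' with _ | k
      · rfl
      · exact absurd h2.symm k.2.2
      · exact absurd h2 i.2.2
      · exact congrArg some (Subtype.ext h2)
  have hTsurj : Function.Surjective T := by
    intro ω
    obtain ⟨φ, ψ, hφ, hψ, rfl⟩ := exists_decomp hW ω
    refine ⟨(if h : φ = 1 then none else some ⟨φ, hφ, h⟩,
      if h : ψ = 1 then none else some ⟨ψ, hψ, h⟩), ?_⟩
    split_ifs with a c c <;> simp [T, optVal, *]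
  let Te := Equiv.ofBijective T ⟨hTinj, hTsurj⟩
  let ev : Option ι × Option κ → ℤ × Cfsg.IrrCharacter G := fun z => match z with
    | (none, none) => (1, oneChar G)
    | (some i, none) => (-sc i, c i)
    | (none, some j) => (-sb j, b j)
    | (some i, some j) => (se i j, e i j)
  have hsgn : ∀ z, (ev z).1 = 1 ∨ (ev z).1 = -1 := by
    rintro ⟨_ | i, _ | j⟩
    · exact Or.inl rfl
    · rcases psb j with h | h <;> simp [ev, h]
    · rcases psc i with h | h <;> simp [ev, h]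
    · exact pse i j
  have hidx : Function.Injective fun z => (ev z).2 := by
    rintro ⟨_ | i, _ | j⟩ ⟨_ | i', _ | j'⟩ h <;> simp only [ev] at h
    · rfl
    · exact absurd h (n1b _)
    · exact absurd h (n1c _)
    · exact absurd h (n1e _ _)
    · exact absurd h.symm (n1b _)
    · rw [ib h]
    · exact absurd h.symm (ncb _ _)
    · exact absurd h (nbe _ _ _)
    · exact absurd h.symm (n1c _)
    · exact absurd h (ncb _ _)
    · rw [ic h]
    · exact absurd h (nce _ _ _)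
    · exact absurd h.symm (n1e _ _)
    · exact absurd h.symm (nbe _ _ _)
    · exact absurd h.symm (nce _ _ _)
    · have := ie (a₁ := (i, j)) (a₂ := (i', j')) h
      rw [Prod.mk.injEq] at this
      rw [this.1, this.2]
  let X : (↥(W₁ ⊔ W₂) →* ℂˣ) → G → ℂ := fun ω =>
    ((ev (Te.symm ω)).1 : ℂ) • ((ev (Te.symm ω)).2 : G → ℂ)
  have hX : ∀ z, X (T z) = ((ev z).1 : ℂ) • ((ev z).2 : G → ℂ) := fun z => by
    simp only [X, show T z = Te z from rfl, Equiv.symm_apply_apply]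
  have hTφ : ∀ i : ι, i.1 = T (some i, none) := fun i => by ext; simp [T, optVal]
  have hTψ : ∀ j : κ, j.1 = T (none, some j) := fun j => by ext; simp [T, optVal]
  have hX1 : X 1 = fun _ => 1 := by
    rw [show (1 : ↥(W₁ ⊔ W₂) →* ℂˣ) = T (none, none) by ext; simp [T, optVal], hX]
    funext g
    simp [ev, oneChar_apply]
  have horth : ∀ ω ω', Cfsg.classInner (X ω) (X ω') = if ω = ω' then 1 else 0 := by
    intro ω ω'
    simp only [X, classInner_smul_left, classInner_smul_right, classInner_irr, map_intCast]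
    by_cases h : ω = ω'
    · subst h
      rw [if_pos rfl, if_pos rfl]
      rcases hsgn (Te.symm ω) with q | q <;> simp [q]
    · rw [if_neg h, if_neg (fun q => h (Te.symm.injective (hidx q)))]
      ring
  have hind : ∀ φ ψ : ↥(W₁ ⊔ W₂) →* ℂˣ, φ ≠ 1 → ψ ≠ 1 → IsP φ → IsQ ψ →
      Cfsg.indFun (W₁ ⊔ W₂) (beta φ ψ) = X 1 - X φ - X ψ + X (φ * ψ) := by
    intro φ ψ h1 h2 hP hQ
    let i : ι := ⟨φ, hP, h1⟩
    let j : κ := ⟨ψ, hQ, h2⟩
    have e1 : φ * ψ = T (some i, some j) := rfl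
    have eφ : X φ = ((-sc i : ℤ) : ℂ) • (c i : G → ℂ) := by
      rw [show φ = T (some i, none) from hTφ i, hX]
    have eψ : X ψ = ((-sb j : ℤ) : ℂ) • (b j : G → ℂ) := by
      rw [show ψ = T (none, some j) from hTψ j, hX]
    rw [hX1, e1, hX, eφ, eψ]
    have h := classFunction_eq_sum (hcl i j)
    funext g
    have hg := congrFun h g
    simp only [Finset.sum_apply, Pi.smul_apply, smul_eq_mul, hv, hv' i j, Pi.add_apply,
      Int.cast_add, add_mul, Finset.sum_add_distrib] at hg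
    have sgl : ∀ (x : Cfsg.IrrCharacter G) (s : ℤ),
        ∑ χ : Cfsg.IrrCharacter G, ((Pi.single x s : _ → ℤ) χ : ℂ) * (χ : G → ℂ) g =
          (s : ℂ) * (x : G → ℂ) g := by
      intro x s
      rw [Finset.sum_eq_single x]
      · rw [Pi.single_eq_same]
      · intro y _ hy
        rw [Pi.single_eq_of_ne hy]
        simp
      · simp
    rw [sgl, sgl, sgl] at hg
    have hγ : γ i j g = Cfsg.indFun (W₁ ⊔ W₂) (beta φ ψ) g - 1 := rfl
    rw [hγ] at hg
    simp only [ev, Pi.add_apply, Pi.sub_apply, Pi.smul_apply, smul_eq_mul]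
    push_cast
    linear_combination hg
  refine ⟨X, ⟨fun ω => ?_, fun ω ω' => by convert horth ω ω', hX1, fun ω w hw₁ hw₂ => ?_,
    fun φ ψ h1 h2 hP hQ => ?_⟩⟩
  · rcases hsgn (Te.symm ω) with q | q
    · left
      simp only [X, q, Int.cast_one, one_smul]
      exact (ev (Te.symm ω)).2.2
    · right
      simp only [X, q, Int.cast_neg, Int.cast_one, neg_smul, one_smul, neg_neg]
      exact (ev (Te.symm ω)).2.2
  · refine sub_eq_zero.1 (eq_zero_of_orthogonal hW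
      (fun u : ↥(W₁ ⊔ W₂) => X ω u - (ω u : ℂ)) (fun φ ψ h1 h2 hP hQ => ?_) hw₁ hw₂)
    have hXcl : Cfsg.IsClassFunction G (X ω) :=
      classFun_smul _ (isClassFunction_irr _)
    rw [show (fun u : ↥(W₁ ⊔ W₂) => X ω u - (ω u : ℂ)) =
      (fun u : ↥(W₁ ⊔ W₂) => X ω u) - lin ω from rfl, classInner_sub_left,
      ← frobenius_reciprocity' _ _ hXcl, hind φ ψ h1 h2 hP hQ, beta_eq]
    simp only [classInner_add_right, classInner_sub_right, horth, classInner_lin]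
    exact sub_self _
  · show Cfsg.indFun (W₁ ⊔ W₂) (beta φ ψ) = _
    rw [hind φ ψ h1 h2 hP hQ, hX1]
    rfl

/-- The relation between four members of the family and a function vanishing off the factors. -/
theorem coef_relation (hW : Cfsg.IsSelfNormalizingCyclic W₁ W₂)
    {χ : (↥(W₁ ⊔ W₂) →* ℂˣ) → (G → ℂ)} (hχ : Cfsg.IsCyclicTIFamily W₁ W₂ χ) {θ : G → ℂ}
    (hθ : Cfsg.IsClassFunction G θ)
    (hθV : ∀ w : ↥(W₁ ⊔ W₂), (w : G) ∉ W₁ → (w : G) ∉ W₂ → θ w = 0)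
    {φ ψ : ↥(W₁ ⊔ W₂) →* ℂˣ} (hP : IsP φ) (hQ : IsQ ψ) :
    Cfsg.classInner θ (χ (φ * ψ)) + Cfsg.classInner θ (χ 1) =
      Cfsg.classInner θ (χ φ) + Cfsg.classInner θ (χ ψ) := by
  classical
  haveI := Fintype.ofFinite ↥(W₁ ⊔ W₂)
  by_cases h1 : φ = 1
  · subst h1
    rw [show (1 : ↥(W₁ ⊔ W₂) →* ℂˣ) * ψ = ψ by ext; simp, add_comm]
  by_cases h2 : ψ = 1
  · subst h2
    rw [show φ * (1 : ↥(W₁ ⊔ W₂) →* ℂˣ) = φ by ext; simp]
  have h0 : Cfsg.classInner θ (Cfsg.indFun (W₁ ⊔ W₂) (beta φ ψ)) = 0 := by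
    rw [frobenius_reciprocity' _ _ hθ, Cfsg.classInner]
    refine mul_eq_zero_of_right _ (Finset.sum_eq_zero fun w _ => ?_)
    by_cases h : (w : G) ∈ W₁ ∨ (w : G) ∈ W₂
    · rw [beta_eq_zero hP hQ h, map_zero, mul_zero]
    · push Not at h
      rw [hθV w h.1 h.2, zero_mul]
  have e : Cfsg.indFun (W₁ ⊔ W₂) (beta φ ψ) = χ 1 - χ φ - χ ψ + χ (φ * ψ) := by
    rw [hχ.map_one]
    exact hχ.induced_eq φ ψ h1 h2 hP hQ
  rw [e, classInner_add_right, classInner_sub_right, classInner_sub_right] at h0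
  linear_combination h0

theorem family_ext_aux {X Y : (↥(W₁ ⊔ W₂) →* ℂˣ) → (G → ℂ)}
    (hX : Cfsg.IsCyclicTIFamily W₁ W₂ X) (hY : Cfsg.IsCyclicTIFamily W₁ W₂ Y)
    {a b b' : ↥(W₁ ⊔ W₂) →* ℂˣ} (ha : a ≠ 1) (hb : b ≠ b')
    (hab : a * b ≠ b') (hab' : a * b' ≠ b) (habb : a * b ≠ a * b')
    (hav : a ≠ b ∧ a ≠ b' ∧ a ≠ a * b ∧ a ≠ a * b')
    (e : X 1 - X a - X b + X (a * b) = Y 1 - Y a - Y b + Y (a * b))
    (e' : X 1 - X a - X b' + X (a * b') = Y 1 - Y a - Y b' + Y (a * b'))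
    (hY1 : Y a ≠ 0) (hn : ∀ c, c = b ∨ c = b' → a * c ≠ a ∧ c ≠ 1 ∧ a * c ≠ 1 ∧ a * c ≠ c) :
    X a = Y a := by
  classical
  have hYin : ∀ c, c = b ∨ c = b' →
      Cfsg.classInner (Y 1 - Y a - Y c + Y (a * c)) (Y a) = -1 := by
    intro c hc
    obtain ⟨n1, -, -, -⟩ := hn c hc
    have n0 : a ≠ c := by rcases hc with rfl | rfl <;> [exact hav.1; exact hav.2.1]
    rw [classInner_add_left, classInner_sub_left, classInner_sub_left, hY.orthonormal,
      hY.orthonormal, hY.orthonormal, hY.orthonormal, if_neg ha.symm, if_pos rfl, if_neg n0.symm,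
      if_neg n1]
    ring
  set t := fun ω => Cfsg.classInner (X ω) (Y a) with ht
  have ht1 : t 1 = 0 := by
    simp only [ht, hX.map_one, ← hY.map_one, hY.orthonormal, if_neg ha.symm]
  have h1 := congrArg (fun f => Cfsg.classInner f (Y a)) e
  have h2 := congrArg (fun f => Cfsg.classInner f (Y a)) e'
  simp only [hYin b (Or.inl rfl)] at h1
  simp only [hYin b' (Or.inr rfl)] at h2
  rw [classInner_add_left, classInner_sub_left, classInner_sub_left] at h1 h2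
  change t 1 - t a - t b + t (a * b) = -1 at h1
  change t 1 - t a - t b' + t (a * b') = -1 at h2
  have huniq : ∀ ω ω', t ω ≠ 0 → t ω' ≠ 0 → ω = ω' := by
    intro ω ω' hω hω'
    by_contra hne
    obtain ⟨ε, hε, he, -⟩ :=
      (Isometry.Inner.signed_cases (hX.irr_or_neg ω) (hY.irr_or_neg a)).resolve_left hω
    obtain ⟨ε', hε', he', -⟩ :=
      (Isometry.Inner.signed_cases (hX.irr_or_neg ω') (hY.irr_or_neg a)).resolve_left hω'
    have h := hX.orthonormal ω ω'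
    rw [if_neg hne, he, he', classInner_smul_left, classInner_smul_right, hY.orthonormal,
      if_pos rfl] at h
    rcases hε with rfl | rfl <;> rcases hε' with rfl | rfl <;> simp at h
  have hta : t a ≠ 0 := by
    intro h0
    rw [ht1, h0, sub_zero, zero_sub] at h1 h2
    have c1 : t b ≠ 0 ∨ t (a * b) ≠ 0 := by
      by_contra hc
      push Not at hc
      rw [hc.1, hc.2] at h1
      norm_num at h1
    have c2 : t b' ≠ 0 ∨ t (a * b') ≠ 0 := by
      by_contra hc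
      push Not at hc
      rw [hc.1, hc.2] at h2
      norm_num at h2
    rcases c1 with c1 | c1 <;> rcases c2 with c2 | c2
    · exact hb (huniq _ _ c1 c2)
    · exact hab' (huniq _ _ c2 c1)
    · exact hab (huniq _ _ c1 c2)
    · exact habb (huniq _ _ c1 c2)
  have tb : t b = 0 := by
    by_contra h
    exact hav.1 (huniq _ _ hta h)
  have tab : t (a * b) = 0 := by
    by_contra h
    exact hav.2.2.1 (huniq _ _ hta h)
  rw [ht1, tb, tab] at h1
  obtain ⟨ε, hε, he, hε'⟩ :=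
    (Isometry.Inner.signed_cases (hX.irr_or_neg a) (hY.irr_or_neg a)).resolve_left hta
  have : ε = 1 := by
    have h3 : t a = 1 := by linear_combination -h1
    rw [← hε']
    exact h3
  rw [he, this, one_smul]

/-- The family is unique. -/
theorem family_unique (hW : Cfsg.IsSelfNormalizingCyclic W₁ W₂)
    (hodd : Odd (Nat.card ↥(W₁ ⊔ W₂))) {X Y : (↥(W₁ ⊔ W₂) →* ℂˣ) → (G → ℂ)}
    (hX : Cfsg.IsCyclicTIFamily W₁ W₂ X) (hY : Cfsg.IsCyclicTIFamily W₁ W₂ Y) : X = Y := by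
  classical
  haveI := finite_hom (G := G) (W₁ := W₁) (W₂ := W₂)
  haveI := Fintype.ofFinite (↥(W₁ ⊔ W₂) →* ℂˣ)
  obtain ⟨ho1, ho2⟩ := odd_factors hodd
  have he : ∀ φ ψ : ↥(W₁ ⊔ W₂) →* ℂˣ, φ ≠ 1 → ψ ≠ 1 → IsP φ → IsQ ψ →
      X 1 - X φ - X ψ + X (φ * ψ) = Y 1 - Y φ - Y ψ + Y (φ * ψ) := by
    intro φ ψ h1 h2 hP hQ
    have a := hX.induced_eq φ ψ h1 h2 hP hQ
    have c := hY.induced_eq φ ψ h1 h2 hP hQ
    rw [a] at c
    rw [hX.map_one, hY.map_one]
    exact c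
  have pick : ∀ (p : (↥(W₁ ⊔ W₂) →* ℂˣ) → Prop) [DecidablePred p], p 1 →
      3 ≤ (Finset.univ.filter p).card → ∃ b b', p b ∧ p b' ∧ b ≠ 1 ∧ b' ≠ 1 ∧ b ≠ b' := by
    intro p _ hp1 hc
    obtain ⟨b, hb, b', hb', hne⟩ := Finset.one_lt_card.1
      (show 1 < ((Finset.univ.filter p).erase 1).card by
        rw [Finset.card_erase_of_mem (by simp [hp1])]; omega)
    simp only [Finset.mem_erase, Finset.mem_filter, Finset.mem_univ, true_and] at hb hb'
    exact ⟨b, b', hb.2, hb'.2, hb.1, hb'.1, hne⟩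
  have hYne : ∀ ω, Y ω ≠ 0 := fun ω h => by
    have := hY.orthonormal ω ω
    rw [h, classInner_zero_left, if_pos rfl] at this
    exact zero_ne_one this
  have hPφ : ∀ φ : ↥(W₁ ⊔ W₂) →* ℂˣ, φ ≠ 1 → IsP φ → X φ = Y φ := by
    intro φ h1 hP
    obtain ⟨b, b', hb, hb', b1, b1', hne⟩ := pick IsQ isQ_one
      ((card_isQ hW).symm ▸ three_le_card hW.2.1 ho2)
    refine family_ext_aux hX hY h1 hne (fun h => h1 ((eq_mul_iff' hP hb hb').1 h).1)
      (fun h => h1 ((eq_mul_iff' hP hb' hb).1 h).1) (fun h => hne (pair_inj hP hP hb hb' h).2)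
      ⟨fun h => h1 (isP_isQ_eq hP hb h), fun h => h1 (isP_isQ_eq hP hb' h),
        fun h => b1 ((eq_mul_iff hP hb hP).1 h.symm).2, fun h => b1' ((eq_mul_iff hP hb' hP).1 h.symm).2⟩
      (he φ b h1 b1 hP hb) (he φ b' h1 b1' hP hb') (hYne φ) fun c hc => ?_
    rcases hc with rfl | rfl
    · exact ⟨fun h => b1 ((eq_mul_iff hP hb hP).1 h).2, b1,
        fun h => h1 ((mul_eq_one_iff hP hb).1 h).1, fun h => h1 ((eq_mul_iff' hP hb hb).1 h).1⟩
    · exact ⟨fun h => b1' ((eq_mul_iff hP hb' hP).1 h).2, b1',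
        fun h => h1 ((mul_eq_one_iff hP hb').1 h).1, fun h => h1 ((eq_mul_iff' hP hb' hb').1 h).1⟩
  have hQψ : ∀ ψ : ↥(W₁ ⊔ W₂) →* ℂˣ, ψ ≠ 1 → IsQ ψ → X ψ = Y ψ := by
    intro ψ h1 hQ
    obtain ⟨b, b', hb, hb', b1, b1', hne⟩ := pick IsP isP_one
      ((card_isP hW).symm ▸ three_le_card hW.1 ho1)
    have flip : ∀ c, IsP c → c ≠ 1 → X 1 - X ψ - X c + X (ψ * c) = Y 1 - Y ψ - Y c + Y (ψ * c) := by
      intro c hc hc1
      have h := he c ψ hc1 h1 hc hQ
      rw [show ψ * c = c * ψ by ext; simp [mul_comm]]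
      rw [sub_right_comm (X 1), sub_right_comm (Y 1)]
      exact h
    have cm : ∀ c : ↥(W₁ ⊔ W₂) →* ℂˣ, ψ * c = c * ψ := fun c => by ext; simp [mul_comm]
    refine family_ext_aux hX hY h1 hne (fun h => h1 ((eq_mul_iff hb hQ hb').1 (cm b ▸ h)).2)
      (fun h => h1 ((eq_mul_iff hb' hQ hb).1 (cm b' ▸ h)).2)
      (fun h => hne (pair_inj hb hb' hQ hQ (by rw [← cm, ← cm]; exact h)).1)
      ⟨fun h => b1 (isP_isQ_eq hb hQ h.symm), fun h => b1' (isP_isQ_eq hb' hQ h.symm),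
        fun h => b1 ((eq_mul_iff' hb hQ hQ).1 (cm b ▸ h.symm)).1,
        fun h => b1' ((eq_mul_iff' hb' hQ hQ).1 (cm b' ▸ h.symm)).1⟩
      (flip b hb b1) (flip b' hb' b1') (hYne ψ) fun c hc => ?_
    rcases hc with rfl | rfl
    · exact ⟨fun h => b1 ((eq_mul_iff' hb hQ hQ).1 (cm _ ▸ h)).1, b1,
        fun h => h1 ((mul_eq_one_iff hb hQ).1 (cm _ ▸ h)).2,
        fun h => h1 ((eq_mul_iff hb hQ hb).1 (cm _ ▸ h)).2⟩
    · exact ⟨fun h => b1' ((eq_mul_iff' hb' hQ hQ).1 (cm _ ▸ h)).1, b1',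
        fun h => h1 ((mul_eq_one_iff hb' hQ).1 (cm _ ▸ h)).2,
        fun h => h1 ((eq_mul_iff hb' hQ hb').1 (cm _ ▸ h)).2⟩
  funext ω
  obtain ⟨φ, ψ, hP, hQ, rfl⟩ := exists_decomp hW ω
  by_cases h1 : φ = 1
  · subst h1
    rw [show (1 : ↥(W₁ ⊔ W₂) →* ℂˣ) * ψ = ψ by ext; simp]
    by_cases h2 : ψ = 1
    · rw [h2, hX.map_one, hY.map_one]
    · exact hQψ ψ h2 hQ
  by_cases h2 : ψ = 1
  · subst h2
    rw [show φ * (1 : ↥(W₁ ⊔ W₂) →* ℂˣ) = φ by ext; simp]
    exact hPφ φ h1 hP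
  have h := he φ ψ h1 h2 hP hQ
  rw [hPφ φ h1 hP, hQψ ψ h2 hQ, hX.map_one, hY.map_one] at h
  exact add_left_cancel h

/-- The family commutes with coprime powers. -/
theorem family_pow (hW : Cfsg.IsSelfNormalizingCyclic W₁ W₂)
    (hodd : Odd (Nat.card ↥(W₁ ⊔ W₂))) {X : (↥(W₁ ⊔ W₂) →* ℂˣ) → (G → ℂ)}
    (hX : Cfsg.IsCyclicTIFamily W₁ W₂ X) {k l : ℕ} (hk : k.Coprime (Nat.card G))
    (hkl : k * l ≡ 1 [MOD Nat.card G]) (ω : ↥(W₁ ⊔ W₂) →* ℂˣ) (g : G) :
    X (ω ^ l) (g ^ k) = X ω g := by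
  classical
  have hkill : ∀ w : ↥(W₁ ⊔ W₂), (w ^ k) ^ l = w := by
    intro w
    rw [← pow_mul]
    conv_rhs => rw [← pow_one w]
    refine pow_eq_pow_iff_modEq.2 (hkl.of_dvd ?_)
    rw [← Subgroup.orderOf_coe]
    exact orderOf_dvd_natCard _
  have hhom : ∀ (η : ↥(W₁ ⊔ W₂) →* ℂˣ) (w : ↥(W₁ ⊔ W₂)), (η ^ l) (w ^ k) = η w := by
    intro η w
    rw [show (η ^ l) (w ^ k) = η (w ^ k) ^ l from rfl, ← map_pow, hkill]
  have hlinj : Function.Injective fun η : ↥(W₁ ⊔ W₂) →* ℂˣ => η ^ l := fun η η' h =>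
    MonoidHom.ext fun w => by rw [← hhom η w, ← hhom η' w, show η ^ l = η' ^ l from h]
  have hbij : Function.Bijective (fun g : G => g ^ k) := (powCoprime (G := G) hk.symm).bijective
  have htw : Cfsg.IsCyclicTIFamily W₁ W₂ (fun η g => X (η ^ l) (g ^ k)) := by
    refine ⟨fun η => ?_, fun η η' => ?_, ?_, fun η w h1 h2 => ?_, fun φ ψ h1 h2 hP hQ => ?_⟩
    · rcases hX.irr_or_neg (η ^ l) with h | h
      · exact Or.inl (BC78.PowChar.isIrrCharacter_pow h hk)
      · exact Or.inr (BC78.PowChar.isIrrCharacter_pow h hk)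
    · have h := hX.orthonormal (η ^ l) (η' ^ l)
      rw [show (η = η') = (η ^ l = η' ^ l) from propext ⟨fun e => e ▸ rfl, fun e => hlinj e⟩]
      rw [← h, Cfsg.classInner, Cfsg.classInner]
      congr 1
      exact Fintype.sum_bijective _ hbij _ _ fun g => rfl
    · funext g
      rw [show (1 : ↥(W₁ ⊔ W₂) →* ℂˣ) ^ l = 1 by ext; simp, hX.map_one]
    · have m1 : ((w ^ k : ↥(W₁ ⊔ W₂)) : G) ∉ W₁ := fun h =>
        h1 (BC78.PowChar.mem_of_pow_mem hk (by simpa using h))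
      have m2 : ((w ^ k : ↥(W₁ ⊔ W₂)) : G) ∉ W₂ := fun h =>
        h2 (BC78.PowChar.mem_of_pow_mem hk (by simpa using h))
      show X (η ^ l) ((w : G) ^ k) = _
      rw [← SubgroupClass.coe_pow, hX.eq_on _ _ m1 m2, hhom]
    · show Cfsg.indFun (W₁ ⊔ W₂) (beta φ ψ) = _
      have n1 : φ ^ l ≠ 1 := fun h => h1 (hlinj (h.trans (by ext; simp)))
      have n2 : ψ ^ l ≠ 1 := fun h => h2 (hlinj (h.trans (by ext; simp)))
      have h := hX.induced_eq (φ ^ l) (ψ ^ l) n1 n2 (IsP.pow hP l) (IsQ.pow hQ l)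
      have hp := BC78.PowChar.indFun_pow (W₁ ⊔ W₂) (beta (φ ^ l) (ψ ^ l)) hk
      rw [show (fun h : ↥(W₁ ⊔ W₂) => beta (φ ^ l) (ψ ^ l) (h ^ k)) = beta φ ψ by
        funext w; simp only [beta, hhom]] at hp
      rw [← hp]
      funext g
      show Cfsg.indFun (W₁ ⊔ W₂) (beta (φ ^ l) (ψ ^ l)) (g ^ k) = _
      rw [show (φ * ψ) ^ l = φ ^ l * ψ ^ l by ext; simp [mul_pow]]
      exact congrFun h (g ^ k)
  exact congrFun (congrFun (family_unique hW hodd htw hX) ω) g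

end Cfsg.Agent.Lib.CyclicTI
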