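import Mathlib

/-!
# Sums of a row and a column function with few nonzero values
-/

set_option autoImplicit false

namespace Cfsg.Agent.Lib.CyclicTI.Count

open Finset

theorem few_nonzero {α β : Type*} [Fintype α] [Fintype β] [DecidableEq α] [DecidableEq β]
    (A : α → ℂ) (B : β → ℂ) (hp : 3 ≤ Fintype.card α) (hpq : Fintype.card α + 2 ≤ Fintype.card β)
    (hfew : (univ.filter fun z : α × β => A z.1 + B z.2 ≠ 0).card < 2 * Fintype.card α) :
    (∀ x y, A x + B y = 0) ∨ (∃ y₀ a, ∀ x y, A x + B y = if y = y₀ then a else 0) ∨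
      ∃ x₀ a, ∀ x y, A x + B y = if x = x₀ then a else 0 := by
  classical
  obtain ⟨x0⟩ : Nonempty α := Fintype.card_pos_iff.1 (by omega)
  obtain ⟨y0⟩ : Nonempty β := Fintype.card_pos_iff.1 (by omega)
  haveI : Nonempty α := ⟨x0⟩
  haveI : Nonempty β := ⟨y0⟩
  set S := univ.filter fun z : α × β => A z.1 + B z.2 ≠ 0 with hS
  have hmem : ∀ x y, (x, y) ∈ S ↔ A x + B y ≠ 0 := fun x y => by simp [hS]
  by_cases hA : ∀ x, A x = A x0
  · set K := univ.filter fun y => A x0 + B y ≠ 0 with hK
    have hSK : S = univ ×ˢ K := by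
      ext ⟨x, y⟩
      simp [hS, hK, hA x]
    rw [hSK, Finset.card_product, Finset.card_univ] at hfew
    rcases (show K.card = 0 ∨ K.card = 1 by
      suffices K.card < 2 by omega
      by_contra hK2
      push Not at hK2
      nlinarith) with h0 | h1
    · left
      intro x y
      by_contra h
      have : y ∈ K := by simp [hK, ← hA x, h]
      rw [Finset.card_eq_zero.1 h0] at this
      simp at this
    · obtain ⟨y₁, hy₁⟩ := Finset.card_eq_one.1 h1
      refine Or.inr (Or.inl ⟨y₁, A x0 + B y₁, fun x y => ?_⟩)
      split_ifs with h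
      · rw [h, hA x]
      · by_contra h'
        have : y ∈ K := by simp [hK, ← hA x, h']
        rw [hy₁, Finset.mem_singleton] at this
        exact h this
  by_cases hB : ∀ y, B y = B y0
  · set K := univ.filter fun x => A x + B y0 ≠ 0 with hK
    have hSK : S = K ×ˢ univ := by
      ext ⟨x, y⟩
      simp [hS, hK, hB y]
    rw [hSK, Finset.card_product, Finset.card_univ] at hfew
    rcases (show K.card = 0 ∨ K.card = 1 by
      suffices K.card < 2 by omega
      by_contra hK2
      push Not at hK2
      nlinarith) with h0 | h1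
    · left
      intro x y
      by_contra h
      have : x ∈ K := by simp [hK, ← hB y, h]
      rw [Finset.card_eq_zero.1 h0] at this
      simp at this
    · obtain ⟨x₁, hx₁⟩ := Finset.card_eq_one.1 h1
      refine Or.inr (Or.inr ⟨x₁, A x₁ + B y0, fun x y => ?_⟩)
      split_ifs with h
      · rw [h, hB y]
      · by_contra h'
        have : x ∈ K := by simp [hK, ← hB y, h']
        rw [hx₁, Finset.mem_singleton] at this
        exact h this
  exfalso
  have hcol : ∃ y, (univ.filter fun x => A x + B y ≠ 0).card ≤ 1 := by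
    by_contra h
    push Not at h
    have h2 : ∑ y : β, 2 ≤ ∑ y : β, (univ.filter fun x => A x + B y ≠ 0).card :=
      Finset.sum_le_sum fun y _ => h y
    have e : ∑ y : β, (univ.filter fun x => A x + B y ≠ 0).card = S.card := by
      rw [hS, Finset.card_filter, Fintype.sum_prod_type, Finset.sum_comm]
      exact Finset.sum_congr rfl fun y _ => Finset.card_filter _ _
    rw [e, Finset.sum_const, Finset.card_univ, smul_eq_mul] at h2
    omega
  have hrow : ∃ x, (univ.filter fun y => A x + B y ≠ 0).card ≤ 1 := by
    by_contra h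
    push Not at h
    have h2 : ∑ x : α, 2 ≤ ∑ x : α, (univ.filter fun y => A x + B y ≠ 0).card :=
      Finset.sum_le_sum fun x _ => h x
    have e : ∑ x : α, (univ.filter fun y => A x + B y ≠ 0).card = S.card := by
      rw [hS, Finset.card_filter, Fintype.sum_prod_type]
      exact Finset.sum_congr rfl fun x _ => Finset.card_filter _ _
    rw [e, Finset.sum_const, Finset.card_univ, smul_eq_mul] at h2
    omega
  obtain ⟨yc, hyc⟩ := hcol
  obtain ⟨xr, hxr⟩ := hrow
  obtain ⟨x₁, hx₁⟩ : ∃ x₁, ∀ x, x ≠ x₁ → A x = -B yc := by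
    refine ((Finset.card_le_one_iff_subset_singleton (α := α)).1 hyc).imp fun x₁ hsub x hx => ?_
    by_contra h
    exact hx (Finset.mem_singleton.1 (hsub (by simpa [eq_neg_iff_add_eq_zero] using h)))
  obtain ⟨y₁, hy₁⟩ : ∃ y₁, ∀ y, y ≠ y₁ → B y = -A xr := by
    refine ((Finset.card_le_one_iff_subset_singleton (α := β)).1 hxr).imp fun y₁ hsub y hy => ?_
    by_contra h
    exact hy (Finset.mem_singleton.1 (hsub (by simpa [eq_neg_iff_add_eq_zero, add_comm] using h)))
  by_cases hc : -B yc + -A xr = 0
  · have hAx : A x₁ + -A xr ≠ 0 := fun h => hA fun x => by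
      have key : ∀ x, A x = -B yc := fun x => by
        by_cases hx : x = x₁
        · rw [hx]; linear_combination h - hc
        · exact hx₁ x hx
      rw [key x, key x0]
    have hBy : -B yc + B y₁ ≠ 0 := fun h => hB fun y => by
      have key : ∀ y, B y = -A xr := fun y => by
        by_cases hy : y = y₁
        · rw [hy]; linear_combination h - hc
        · exact hy₁ y hy
      rw [key y, key y0]
    have hsub : ({x₁} ×ˢ univ.erase y₁) ∪ (univ.erase x₁ ×ˢ {y₁}) ⊆ S := by
      rintro ⟨x, y⟩ hz
      simp only [Finset.mem_union, Finset.mem_product, Finset.mem_singleton, Finset.mem_erase,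
        Finset.mem_univ, and_true] at hz
      rw [hmem]
      rcases hz with ⟨rfl, hy⟩ | ⟨hx, rfl⟩
      · rwa [hy₁ y hy]
      · rwa [hx₁ x hx]
    have hle := Finset.card_le_card hsub
    rw [Finset.card_union_of_disjoint (by
      rw [Finset.disjoint_left]
      rintro ⟨x, y⟩ h1 h2
      simp only [Finset.mem_product, Finset.mem_singleton, Finset.mem_erase] at h1 h2
      exact h2.1.1 h1.1), Finset.card_product, Finset.card_product] at hle
    simp only [Finset.card_singleton, Finset.card_erase_of_mem (Finset.mem_univ _),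
      Finset.card_univ, one_mul, mul_one] at hle
    omega
  · have hsub : univ.erase x₁ ×ˢ univ.erase y₁ ⊆ S := by
      rintro ⟨x, y⟩ hz
      simp only [Finset.mem_product, Finset.mem_erase, Finset.mem_univ, and_true] at hz
      rw [hmem, hx₁ x hz.1, hy₁ y hz.2]
      exact hc
    have hle := Finset.card_le_card hsub
    simp only [Finset.card_product, Finset.card_erase_of_mem (Finset.mem_univ _),
      Finset.card_univ] at hle
    have : (Fintype.card α - 1) * (Fintype.card α + 1) ≤
        (Fintype.card α - 1) * (Fintype.card β - 1) := Nat.mul_le_mul_left _ (by omega)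
    obtain ⟨m, hm⟩ : ∃ m, Fintype.card α = m + 3 := ⟨_, (Nat.sub_add_cancel hp).symm⟩
    rw [hm] at this hle hfew
    simp only [show m + 3 - 1 = m + 2 from rfl] at this hle
    nlinarith

end Cfsg.Agent.Lib.CyclicTI.Count
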