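import Cfsg.Agent.Lib.CyclicTI.Family
import Cfsg.Agent.S1510

/-!
# The irreducible characters attached to a cyclic complement

`L = K ⋊ W₁` with `W₁` cyclic and `W₂` the centralizer in `K` of every non-trivial element of
`W₁`: the family attached to `W = W₁W₂` in `L`, its values and its inductions.
-/

set_option autoImplicit false
set_option linter.style.haveILetI false

namespace Cfsg.Agent.Lib.CyclicTI

open scoped ComplexConjugate
open Cfsg.Agent.Lib.Induced.Basic Cfsg.Agent.Lib.Characters.Basic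

universe u

/-- `L = K ⋊ W₁`, `W₁` cyclic Hall, `W₂` the fixed points in `K` of each `x ∈ W₁#`. -/
structure IsPLike {L : Type u} [Group L] (K W₁ W₂ : Subgroup L) : Prop where
  inf_eq : K ⊓ W₁ = ⊥
  sup_eq : K ⊔ W₁ = ⊤
  ne₁ : W₁ ≠ ⊥
  cyclic₁ : IsCyclic W₁
  hall : Nat.Coprime (Nat.card W₁) W₁.index
  ne₂ : W₂ ≠ ⊥
  cyclic₂ : IsCyclic W₂
  le : W₂ ≤ K
  cent : ∀ x ∈ W₁, x ≠ 1 → K ⊓ Subgroup.centralizer ({x} : Set L) = W₂
  odd : Odd (Nat.card ↥(W₁ ⊔ W₂))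

variable {L : Type u} [Group L] [Fintype L] {K W₁ W₂ : Subgroup L} [hK : K.Normal]
  (h : IsPLike K W₁ W₂)

include h

namespace IsPLike

theorem selfNormalizing : Cfsg.IsSelfNormalizingCyclic W₁ W₂ :=
  Cfsg.Agent.S1510.result K W₁ W₂ h.inf_eq h.sup_eq h.ne₁ h.cyclic₁ h.hall h.ne₂ h.cyclic₂ h.le
    h.cent h.odd

theorem isCompl : Subgroup.IsComplement' K W₁ :=
  Subgroup.isComplement'_of_disjoint_and_mul_eq_univ (disjoint_iff.2 h.inf_eq)
    (by rw [← Subgroup.normal_mul, h.sup_eq, Subgroup.coe_top])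

theorem index_eq : K.index = Nat.card W₁ := h.isCompl.symm.index_eq_card

theorem coprime : Nat.Coprime (Nat.card W₁) (Nat.card K) := by
  have := h.hall
  rwa [h.isCompl.index_eq_card] at this

/-- An element of `W` in `K` lies in `W₂`. -/
theorem mem_K_iff (w : ↥(W₁ ⊔ W₂)) : (w : L) ∈ K ↔ (w : L) ∈ W₂ := by
  refine ⟨fun hw => ?_, fun hw => h.le hw⟩
  obtain ⟨π₁, π₂, hπ⟩ := exists_proj h.selfNormalizing
  have e : (w : L) = π₁ w * π₂ w := congrArg Subtype.val (hπ w).1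
  have h1 : (π₁ w : L) = 1 := by
    have hm : (π₁ w : L) ∈ K ⊓ W₁ := ⟨by
      rw [eq_mul_inv_of_mul_eq e.symm]
      exact K.mul_mem hw (K.inv_mem (h.le (hπ w).2.2)), (hπ w).2.1⟩
    rwa [h.inf_eq, Subgroup.mem_bot] at hm
  rw [e, h1, one_mul]
  exact (hπ w).2.2

/-- Fusion of `W ∖ W₂` happens inside `W`. -/
theorem mem_of_conj {g : L} {w : ↥(W₁ ⊔ W₂)} (hw : (w : L) ∉ W₂) (hg : g * w * g⁻¹ ∈ W₁ ⊔ W₂) :
    g ∈ W₁ ⊔ W₂ := by
  obtain ⟨π₁, π₂, hπ⟩ := exists_proj h.selfNormalizing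
  obtain ⟨k, hk1, hk0⟩ := Nat.chineseRemainder h.coprime 1 0
  have hpow : ∀ u : ↥(W₁ ⊔ W₂), (u : L) ^ k = π₁ u := by
    intro u
    have hc : Commute (π₁ u : L) (π₂ u) := congrArg Subtype.val (comm h.selfNormalizing (π₁ u) (π₂ u))
    rw [show (u : L) = π₁ u * π₂ u from congrArg Subtype.val (hπ u).1, hc.mul_pow]
    have e1 : (π₁ u : L) ^ k = π₁ u := by
      conv_rhs => rw [← pow_one (π₁ u : L)]
      exact pow_eq_pow_iff_modEq.2 (hk1.of_dvd (Subgroup.orderOf_dvd_natCard _ (hπ u).2.1))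
    have e2 : (π₂ u : L) ^ k = 1 := orderOf_dvd_iff_pow_eq_one.1
      (dvd_trans (Subgroup.orderOf_dvd_natCard _ (h.le (hπ u).2.2)) (Nat.modEq_zero_iff_dvd.1 hk0))
    rw [e1, e2, mul_one]
  set a : L := (π₁ w : L) with hadef
  set a' : L := (π₁ ⟨g * w * g⁻¹, hg⟩ : L) with ha'def
  have ha : a ∈ W₁ := (hπ w).2.1
  have ha' : a' ∈ W₁ := (hπ _).2.1
  have ha1 : a ≠ 1 := fun e => hw (by
    rw [show (w : L) = π₁ w * π₂ w from congrArg Subtype.val (hπ w).1, ← hadef, e, one_mul]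
    exact (hπ w).2.2)
  have e2 : g * a * g⁻¹ = a' := by
    rw [ha'def, ← hpow ⟨g * w * g⁻¹, hg⟩, hadef, ← hpow w, conj_pow]
  have hg' : g ∈ ((K ⊔ W₁ : Subgroup L) : Set L) := by rw [h.sup_eq]; trivial
  rw [Subgroup.normal_mul] at hg'
  obtain ⟨c, hc, v, hv, rfl⟩ := hg'
  have hva : v * a * v⁻¹ = a := by
    haveI := h.cyclic₁
    haveI : IsMulCommutative W₁ := IsCyclic.isMulCommutative
    have h' : (⟨v, hv⟩ : W₁) * ⟨a, ha⟩ = ⟨a, ha⟩ * ⟨v, hv⟩ := mul_comm' _ _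
    have h'' : v * a = a * v := congrArg Subtype.val h'
    rw [h'', mul_inv_cancel_right]
  have e3 : c * a * c⁻¹ = a' := by
    rw [← e2]
    calc c * a * c⁻¹ = c * (v * a * v⁻¹) * c⁻¹ := by rw [hva]
      _ = _ := by group
  have haa : a' = a := by
    have hm : a' * a⁻¹ ∈ K ⊓ W₁ := ⟨by
      rw [← e3, mul_assoc, mul_assoc]
      exact K.mul_mem hc (by simpa [mul_assoc] using hK.conj_mem c⁻¹ (K.inv_mem hc) a),
      W₁.mul_mem ha' (W₁.inv_mem ha)⟩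
    rwa [h.inf_eq, Subgroup.mem_bot, mul_inv_eq_one] at hm
  rw [haa] at e3
  have hcW : c ∈ W₂ := by
    rw [← h.cent a ha ha1]
    exact ⟨hc, Cfsg.Agent.Lib.Isometry.TI.mem_centralizer_of_conj_eq e3⟩
  exact (W₁ ⊔ W₂).mul_mem (Subgroup.mem_sup_right hcW) (Subgroup.mem_sup_left hv)

/-- A function supported on `W ∖ W₂` is the restriction of the function it induces. -/
theorem indFun_restrict {f : ↥(W₁ ⊔ W₂) → ℂ} (hf : ∀ u : ↥(W₁ ⊔ W₂), (u : L) ∈ W₂ → f u = 0)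
    (v : ↥(W₁ ⊔ W₂)) : Cfsg.indFun (W₁ ⊔ W₂) f v = f v := by
  classical
  have key : ∀ x : L, Cfsg.extendByZero (W₁ ⊔ W₂) f (x⁻¹ * v * x) =
      if x ∈ W₁ ⊔ W₂ then f v else 0 := by
    intro x
    split_ifs with hx
    · have e : x⁻¹ * (v : L) * x = v := by
        have := congrArg Subtype.val (comm h.selfNormalizing v ⟨x, hx⟩)
        rw [mul_assoc, show (v : L) * x = x * v from this, inv_mul_cancel_left]
      rw [e, extendByZero_coe]
    · by_cases hm : x⁻¹ * v * x ∈ W₁ ⊔ W₂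
      · rw [extendByZero_of_mem _ _ hm]
        by_cases h2 : x⁻¹ * v * x ∈ W₂
        · exact hf _ h2
        · exact absurd (h.mem_of_conj (w := ⟨_, hm⟩) (g := x) h2
            (by simp [mul_assoc])) hx
      · exact extendByZero_of_not_mem _ _ hm
  simp only [Cfsg.indFun, key]
  rw [← Finset.sum_filter, Finset.sum_const, nsmul_eq_mul, ← mul_assoc]
  have : (Finset.univ.filter (fun x : L => x ∈ W₁ ⊔ W₂)).card = Nat.card ↥(W₁ ⊔ W₂) := by
    rw [Nat.card_eq_fintype_card, Fintype.card_subtype]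
  rw [this, inv_mul_cancel₀ (subgroup_card_ne_zero _), one_mul]

/-- Extension of a character trivial on `W₂` to one of `L` trivial on `K`. -/
theorem exists_inflation {φ : ↥(W₁ ⊔ W₂) →* ℂˣ} (hφ : IsP φ) :
    ∃ Φ : L →* ℂˣ, (∀ k ∈ K, Φ k = 1) ∧ ∀ w : ↥(W₁ ⊔ W₂), Φ w = φ w := by
  set ι : W₁ →* L ⧸ K := (QuotientGroup.mk' K).comp W₁.subtype
  have hι : Function.Bijective ι := by
    refine ⟨(injective_iff_map_eq_one ι).2 fun a ha => Subtype.ext ?_, fun q => ?_⟩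
    · have hm : (a : L) ∈ K ⊓ W₁ := ⟨(QuotientGroup.eq_one_iff (a : L)).1 ha, a.2⟩
      rwa [h.inf_eq, Subgroup.mem_bot] at hm
    · obtain ⟨g, rfl⟩ := QuotientGroup.mk'_surjective K q
      obtain ⟨k, hk, a, ha, rfl⟩ : ∃ k ∈ K, ∃ a ∈ W₁, k * a = g :=
        Subgroup.mem_sup_of_normal_left.mp (h.sup_eq ▸ Subgroup.mem_top g)
      refine ⟨⟨a, ha⟩, ?_⟩
      show QuotientGroup.mk' K a = _
      rw [map_mul, show QuotientGroup.mk' K k = 1 from (QuotientGroup.eq_one_iff k).2 hk, one_mul]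
  set e := MulEquiv.ofBijective ι hι
  set Φ : L →* ℂˣ := (φ.comp ((Subgroup.inclusion le_sup_left).comp e.symm.toMonoidHom)).comp
    (QuotientGroup.mk' K) with hΦ
  have hΦK : ∀ k ∈ K, Φ k = 1 := fun k hk => by
    rw [hΦ]
    simp only [MonoidHom.comp_apply]
    rw [show QuotientGroup.mk' K k = 1 from (QuotientGroup.eq_one_iff k).2 hk, map_one, map_one,
      map_one]
  refine ⟨Φ, hΦK, fun w => ?_⟩
  suffices hs : Φ.comp (W₁ ⊔ W₂).subtype = φ from DFunLike.congr_fun hs w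
  refine hom_ext (fun u hu => ?_) (fun u hu => ?_)
  · show φ (Subgroup.inclusion le_sup_left (e.symm (ι ⟨u, hu⟩))) = _
    rw [show ι ⟨u, hu⟩ = e ⟨u, hu⟩ from rfl, e.symm_apply_apply]
    rfl
  · show Φ u = _
    rw [hΦK _ (h.le hu), hφ u hu]

end IsPLike

omit h hK in
/-- Identification of a member of the family from its inner products. -/
theorem family_eq_of_inner {X : (↥(W₁ ⊔ W₂) →* ℂˣ) → (L → ℂ)}
    (hX : Cfsg.IsCyclicTIFamily W₁ W₂ X) {θ : L → ℂ}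
    (hθ : Cfsg.IsIrrCharacter L θ ∨ Cfsg.IsIrrCharacter L (-θ))
    {φ b b' : ↥(W₁ ⊔ W₂) →* ℂˣ} (hP : IsP φ) (hb : IsQ b) (hb' : IsQ b') (h1 : φ ≠ 1)
    (b1 : b ≠ 1) (b1' : b' ≠ 1) (hne : b ≠ b')
    (e : ∀ c, c = b ∨ c = b' → Cfsg.classInner (X (φ * c)) θ - Cfsg.classInner (X φ) θ
      - Cfsg.classInner (X c) θ = -1) :
    X φ = θ := by
  classical
  set t := fun ω => Cfsg.classInner (X ω) θ with ht
  have huniq : ∀ ω ω', t ω ≠ 0 → t ω' ≠ 0 → ω = ω' := by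
    intro ω ω' hω hω'
    by_contra hn
    obtain ⟨ε, hε, he, -⟩ :=
      (Isometry.Inner.signed_cases (hX.irr_or_neg ω) hθ).resolve_left hω
    obtain ⟨ε', hε', he', -⟩ :=
      (Isometry.Inner.signed_cases (hX.irr_or_neg ω') hθ).resolve_left hω'
    have h := hX.orthonormal ω ω'
    rw [if_neg hn, he, he', classInner_smul_left, classInner_smul_right,
      Isometry.Inner.classInner_self_signed hθ] at h
    rcases hε with rfl | rfl <;> rcases hε' with rfl | rfl <;> simp at h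
  have e₁ : t (φ * b) - t φ - t b = -1 := e b (Or.inl rfl)
  have e₂ : t (φ * b') - t φ - t b' = -1 := e b' (Or.inr rfl)
  have nb : φ ≠ b := fun hh => h1 (isP_isQ_eq hP hb hh)
  have nm : φ * b ≠ φ := fun hh => b1 ((eq_mul_iff hP hb hP).1 hh).2
  have htφ : t φ ≠ 0 := by
    intro h0
    rw [h0, sub_zero] at e₁ e₂
    have c1 : t b ≠ 0 ∨ t (φ * b) ≠ 0 := by
      by_contra hc
      push Not at hc
      rw [hc.1, hc.2] at e₁
      norm_num at e₁
    have c2 : t b' ≠ 0 ∨ t (φ * b') ≠ 0 := by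
      by_contra hc
      push Not at hc
      rw [hc.1, hc.2] at e₂
      norm_num at e₂
    rcases c1 with c1 | c1 <;> rcases c2 with c2 | c2
    · exact hne (huniq _ _ c1 c2)
    · exact h1 ((eq_mul_iff' hP hb' hb).1 (huniq _ _ c2 c1)).1
    · exact h1 ((eq_mul_iff' hP hb hb').1 (huniq _ _ c1 c2)).1
    · exact hne (pair_inj hP hP hb hb' (huniq _ _ c1 c2)).2
  have t1 : t b = 0 := by
    by_contra hh
    exact nb (huniq _ _ htφ hh)
  have t2 : t (φ * b) = 0 := by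
    by_contra hh
    exact nm (huniq _ _ hh htφ)
  rw [t1, t2, zero_sub, sub_zero, neg_inj] at e₁
  obtain ⟨ε, hε, he, hε'⟩ :=
    (Isometry.Inner.signed_cases (hX.irr_or_neg φ) hθ).resolve_left htφ
  rw [he, show ε = 1 from hε'.symm.trans e₁, one_smul]

namespace IsPLike

/-- The differences of linear characters agreeing on `W₂` induce to differences in the family. -/
theorem indFun_diff {X : (↥(W₁ ⊔ W₂) →* ℂˣ) → (L → ℂ)} (hX : Cfsg.IsCyclicTIFamily W₁ W₂ X)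
    {ω ω' : ↥(W₁ ⊔ W₂) →* ℂˣ} (hω : ∀ w : ↥(W₁ ⊔ W₂), (w : L) ∈ W₂ → ω w = ω' w) :
    Cfsg.indFun (W₁ ⊔ W₂) (lin ω - lin ω') = X ω - X ω' := by
  classical
  have hW := h.selfNormalizing
  haveI := Fintype.ofFinite ↥(W₁ ⊔ W₂)
  haveI := finite_hom (G := L) (W₁ := W₁) (W₂ := W₂)
  haveI := Fintype.ofFinite (↥(W₁ ⊔ W₂) →* ℂˣ)
  obtain ⟨b, hb, b', hb', hne⟩ := Finset.one_lt_card.1
    (show 1 < ((Finset.univ.filter fun c : ↥(W₁ ⊔ W₂) →* ℂˣ => IsQ c).erase 1).card by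
      rw [Finset.card_erase_of_mem (by simp [isQ_one]), card_isQ hW]
      have := three_le_card hW.2.1 (odd_factors h.odd).2
      omega)
  simp only [Finset.mem_erase, Finset.mem_filter, Finset.mem_univ, true_and] at hb hb'
  have hsub : ∀ φ : ↥(W₁ ⊔ W₂) →* ℂˣ, IsP φ →
      Cfsg.indFun (W₁ ⊔ W₂) (lin 1 - lin φ) = X 1 - X φ := by
    intro φ hφ
    by_cases h1 : φ = 1
    · rw [h1, sub_self, sub_self, indFun_zero]
    obtain ⟨Φ, hΦK, hΦ⟩ := h.exists_inflation hφ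
    set θ : L → ℂ := fun g => (Φ g : ℂ) with hθdef
    have hθirr : Cfsg.IsIrrCharacter L θ :=
      Cfsg.Agent.Lib.Induced.Character.isIrrCharacter_hom Φ
    have hθcl : Cfsg.IsClassFunction L θ := isClassFunction_irr ⟨θ, hθirr⟩
    have hres : (fun u : ↥(W₁ ⊔ W₂) => θ u) = lin φ := by
      funext u; simp [hθdef, lin, hΦ u]
    have hone : (fun _ : L => (1 : ℂ)) ≠ θ := by
      intro e
      apply h1
      ext u
      have := congrFun e (u : L)
      simp only [hθdef, hΦ u] at this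
      simp [← this]
    have i10 : Cfsg.classInner (fun _ : L => (1 : ℂ)) θ = 0 := by
      exact (Isometry.Inner.classInner_irr_eq (oneChar L).2 hθirr).trans (if_neg hone)
    have i11 : Cfsg.classInner (fun _ : L => (1 : ℂ)) (fun _ : L => (1 : ℂ)) = 1 :=
      classInner_self_irr (oneChar L)
    have iθθ : Cfsg.classInner θ θ = 1 := classInner_self_irr ⟨θ, hθirr⟩
    have r1 : (fun _ : ↥(W₁ ⊔ W₂) => (1 : ℂ)) = lin 1 := by funext u; simp [lin]
    set F := Cfsg.indFun (W₁ ⊔ W₂) (lin 1 - lin φ) with hF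
    have fθ : Cfsg.classInner F θ = -1 := by
      rw [hF, frobenius_reciprocity _ _ hθcl, hres, classInner_sub_left, classInner_lin,
        classInner_lin, if_neg (Ne.symm h1), if_pos rfl]
      ring
    have f1 : Cfsg.classInner F (fun _ : L => (1 : ℂ)) = 1 := by
      rw [hF, frobenius_reciprocity _ _ (fun _ _ => rfl), r1, classInner_sub_left, classInner_lin,
        classInner_lin, if_pos rfl, if_neg h1]
      ring
    have fF : Cfsg.classInner F F = 2 := by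
      rw [hF, frobenius_reciprocity _ _ (isClassFunction_indFun _ _),
        show (fun u : ↥(W₁ ⊔ W₂) => Cfsg.indFun (W₁ ⊔ W₂) (lin 1 - lin φ) u) = lin 1 - lin φ from
          funext fun u => h.indFun_restrict (fun v hv => by simp [lin, hφ v hv]) u,
        classInner_sub_left, classInner_sub_right, classInner_sub_right]
      simp only [classInner_lin, h1, Ne.symm h1, if_true, if_false]
      norm_num
    have hFeq : F = (fun _ => (1 : ℂ)) - θ := by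
      refine sub_eq_zero.1 (Isometry.Inner.eq_zero_of_classInner_self ?_)
      have s1 := classInner_conj_symm F (fun _ : L => (1 : ℂ))
      have s2 := classInner_conj_symm F θ
      have s3 := classInner_conj_symm (fun _ : L => (1 : ℂ)) θ
      simp only [classInner_sub_left, classInner_sub_right, f1, fθ, fF, ← s1, ← s2, ← s3, i10,
        i11, iθθ, map_one, map_neg, map_zero]
      norm_num
    have hXφ : X φ = θ := by
      refine family_eq_of_inner hX (Or.inl hθirr) hφ hb.2 hb'.2 h1 hb.1 hb'.1 hne fun c hc => ?_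
      obtain ⟨hcQ, hc1⟩ : IsQ c ∧ c ≠ 1 := by
        rcases hc with rfl | rfl
        · exact ⟨hb.2, hb.1⟩
        · exact ⟨hb'.2, hb'.1⟩
      have e := congrArg (fun f => Cfsg.classInner f θ)
        (show Cfsg.indFun (W₁ ⊔ W₂) (beta φ c) = X 1 - X φ - X c + X (φ * c) by
          rw [hX.map_one]
          exact hX.induced_eq φ c h1 hc1 hφ hcQ)
      simp only [frobenius_reciprocity _ _ hθcl, hres, classInner_beta_lin, classInner_add_left,
        classInner_sub_left, hX.map_one, i10, Ne.symm h1, if_true, if_false] at e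
      rw [if_neg (show ¬ c = φ from fun hh => h1 (isP_isQ_eq hφ hcQ hh.symm)),
        if_neg (show ¬ φ * c = φ from fun hh => hc1 ((eq_mul_iff hφ hcQ hφ).1 hh).2)] at e
      linear_combination -e
    rw [hXφ, hX.map_one]
    exact hFeq
  have hsub' : ∀ φ ψ : ↥(W₁ ⊔ W₂) →* ℂˣ, IsP φ → IsQ ψ →
      Cfsg.indFun (W₁ ⊔ W₂) (lin ψ - lin (φ * ψ)) = X ψ - X (φ * ψ) := by
    intro φ ψ hφ hψ
    by_cases h1 : φ = 1
    · rw [h1, show (1 : ↥(W₁ ⊔ W₂) →* ℂˣ) * ψ = ψ by ext; simp, sub_self, sub_self, indFun_zero]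
    by_cases h2 : ψ = 1
    · rw [h2, show φ * (1 : ↥(W₁ ⊔ W₂) →* ℂˣ) = φ by ext; simp]
      exact hsub φ hφ
    have e : lin ψ - lin (φ * ψ) = (lin 1 - lin φ) - beta φ ψ := by rw [beta_eq]; abel
    rw [e, indFun_sub, hsub φ hφ,
      show Cfsg.indFun (W₁ ⊔ W₂) (beta φ ψ) = X 1 - X φ - X ψ + X (φ * ψ) by
        rw [hX.map_one]
        exact hX.induced_eq φ ψ h1 h2 hφ hψ]
    abel
  obtain ⟨φ, ψ, hP, hQ, rfl⟩ := exists_decomp hW ω
  obtain ⟨φ', ψ', hP', hQ', rfl⟩ := exists_decomp hW ω'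
  obtain rfl : ψ = ψ' := hom_ext (fun w hw => (hQ w hw).trans (hQ' w hw).symm) fun w hw => by
    simpa [hP w hw, hP' w hw] using hω w hw
  rw [show lin (φ * ψ) - lin (φ' * ψ) = (lin ψ - lin (φ' * ψ)) - (lin ψ - lin (φ * ψ)) by abel,
    indFun_sub, hsub' φ' ψ hP' hQ, hsub' φ ψ hP hQ]
  abel

/-- A function orthogonal to all `φψ - ψ` vanishes off `W₂`. -/
theorem eq_zero_of_orthogonal_diff [Fintype ↥(W₁ ⊔ W₂)] (D : ↥(W₁ ⊔ W₂) → ℂ)
    (hD : ∀ φ ψ : ↥(W₁ ⊔ W₂) →* ℂˣ, IsP φ → IsQ ψ →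
      Cfsg.classInner D (lin (φ * ψ) - lin ψ) = 0)
    {v : ↥(W₁ ⊔ W₂)} (hv : (v : L) ∉ W₂) : D v = 0 := by
  classical
  have hW := h.selfNormalizing
  haveI := finite_hom (G := L) (W₁ := W₁) (W₂ := W₂)
  haveI := Fintype.ofFinite (↥(W₁ ⊔ W₂) →* ℂˣ)
  set cp : ℂ := ((Finset.univ.filter fun φ : ↥(W₁ ⊔ W₂) →* ℂˣ => IsP φ).card : ℂ)
  set cq : ℂ := ((Finset.univ.filter fun φ : ↥(W₁ ⊔ W₂) →* ℂˣ => IsQ φ).card : ℂ)
  have hcp : cp ≠ 0 := Nat.cast_ne_zero.2 (Finset.card_ne_zero_of_mem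
    (Finset.mem_filter.2 ⟨Finset.mem_univ _, isP_one⟩))
  have hcq : cq ≠ 0 := Nat.cast_ne_zero.2 (Finset.card_ne_zero_of_mem
    (Finset.mem_filter.2 ⟨Finset.mem_univ _, isQ_one⟩))
  have hker : ∀ w : ↥(W₁ ⊔ W₂), (∑ φ : ↥(W₁ ⊔ W₂) →* ℂˣ with IsP φ,
      ∑ ψ : ↥(W₁ ⊔ W₂) →* ℂˣ with IsQ ψ,
        (φ v⁻¹ : ℂ) * (ψ v⁻¹ : ℂ) * (lin (φ * ψ) - lin ψ) w) = if w = v then cp * cq else 0 := by
    intro w
    have e : ∀ φ ψ : ↥(W₁ ⊔ W₂) →* ℂˣ,
        (φ v⁻¹ : ℂ) * (ψ v⁻¹ : ℂ) * (lin (φ * ψ) - lin ψ) w =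
          ((φ (v⁻¹ * w) : ℂ) - (φ v⁻¹ : ℂ)) * (ψ (v⁻¹ * w) : ℂ) := by
      intro φ ψ
      simp only [lin, map_mul, Units.val_mul, Pi.sub_apply, MonoidHom.mul_apply]
      ring
    simp only [e, ← Finset.mul_sum, ← Finset.sum_mul]
    rw [Finset.sum_sub_distrib, sum_isP hW, sum_isP hW, sum_isQ hW,
      if_neg (show ((v⁻¹ : ↥(W₁ ⊔ W₂)) : L) ∉ W₂ from fun hm => hv (by simpa using hm))]
    by_cases hwv : w = v
    · subst hwv
      simp [cp, cq]
    · rw [if_neg hwv]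
      by_cases m₂ : ((v⁻¹ * w : ↥(W₁ ⊔ W₂)) : L) ∈ W₂
      · by_cases m₁ : ((v⁻¹ * w : ↥(W₁ ⊔ W₂)) : L) ∈ W₁
        · exact absurd (inv_mul_eq_one.1 (Subtype.ext (eq_one_of_mem hW m₁ m₂) :
            v⁻¹ * w = 1)).symm hwv
        · rw [if_neg m₁]; ring
      · rw [if_neg m₂]; ring
  have hzero : ∑ φ : ↥(W₁ ⊔ W₂) →* ℂˣ with IsP φ, ∑ ψ : ↥(W₁ ⊔ W₂) →* ℂˣ with IsQ ψ,
      conj ((φ v⁻¹ : ℂ) * (ψ v⁻¹ : ℂ)) * Cfsg.classInner D (lin (φ * ψ) - lin ψ) = 0 :=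
    Finset.sum_eq_zero fun φ hφ => Finset.sum_eq_zero fun ψ hψ => by
      rw [hD φ ψ (Finset.mem_filter.1 hφ).2 (Finset.mem_filter.1 hψ).2, mul_zero]
  simp only [← classInner_smul_right, ← classInner_sum_right] at hzero
  rw [show (∑ φ : ↥(W₁ ⊔ W₂) →* ℂˣ with IsP φ, ∑ ψ : ↥(W₁ ⊔ W₂) →* ℂˣ with IsQ ψ,
      ((φ v⁻¹ : ℂ) * (ψ v⁻¹ : ℂ)) • (lin (φ * ψ) - lin ψ)) =
        fun w => if w = v then cp * cq else 0 by
    funext w
    simp only [Finset.sum_apply, Pi.smul_apply, smul_eq_mul]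
    exact hker w, Cfsg.classInner] at hzero
  simp only [apply_ite (starRingEnd ℂ), map_zero, mul_ite, mul_zero] at hzero
  rw [Finset.sum_ite_eq' Finset.univ v, if_pos (Finset.mem_univ v)] at hzero
  have h0 := (mul_eq_zero.1 hzero).resolve_left (inv_ne_zero natCard_ne_zero)
  exact (mul_eq_zero.1 h0).resolve_right ((map_ne_zero _).2 (mul_ne_zero hcp hcq))

/-- The irreducible characters `μ` with their signs. -/
theorem exists_characters : ∃ (μ : (↥(W₁ ⊔ W₂) →* ℂˣ) → (L → ℂ))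
    (δ : (↥(W₁ ⊔ W₂) →* ℂˣ) → ℂ), Function.Injective μ ∧ (∀ ω, Cfsg.IsIrrCharacter L (μ ω)) ∧
    (∀ ω, δ ω = 1 ∨ δ ω = -1) ∧
    (∀ ω ω' : ↥(W₁ ⊔ W₂) →* ℂˣ, (∀ w : ↥(W₁ ⊔ W₂), (w : L) ∈ W₂ → ω w = ω' w) →
      δ ω = δ ω' ∧ Cfsg.indFun (W₁ ⊔ W₂) (lin ω - lin ω') = δ ω • (μ ω - μ ω')) ∧
    (∀ ω, ∀ w : ↥(W₁ ⊔ W₂), (w : L) ∉ W₂ → μ ω w = δ ω * (ω w : ℂ)) ∧
    (∀ θ : L → ℂ, Cfsg.IsIrrCharacter L θ → (∀ ω, θ ≠ μ ω) →
      ∀ w : ↥(W₁ ⊔ W₂), (w : L) ∉ W₂ → θ w = 0) ∧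
    (∀ ω, ∃ n : ℤ, μ ω 1 - δ ω = n * (Nat.card W₁ : ℂ)) := by
  classical
  haveI := Fintype.ofFinite ↥(W₁ ⊔ W₂)
  have hW := h.selfNormalizing
  obtain ⟨X, hX⟩ := exists_family (G := L) hW h.odd
  set δ : (↥(W₁ ⊔ W₂) →* ℂˣ) → ℂ := fun ω => if Cfsg.IsIrrCharacter L (X ω) then 1 else -1
    with hδdef
  have hδ : ∀ ω, δ ω = 1 ∨ δ ω = -1 := fun ω => by
    simp only [hδdef]; split_ifs <;> simp
  have hδ2 : ∀ ω, δ ω * δ ω = 1 := fun ω => by rcases hδ ω with e | e <;> simp [e]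
  set μ : (↥(W₁ ⊔ W₂) →* ℂˣ) → (L → ℂ) := fun ω => δ ω • X ω with hμdef
  have hμ : ∀ ω, Cfsg.IsIrrCharacter L (μ ω) := fun ω => by
    simp only [hμdef, hδdef]
    split_ifs with hi
    · simpa using hi
    · simpa using (hX.irr_or_neg ω).resolve_left hi
  have hXμ : ∀ ω, X ω = δ ω • μ ω := fun ω => by
    rw [hμdef, smul_smul, hδ2, one_smul]
  have hinj : Function.Injective μ := by
    intro ω ω' e
    by_contra hne
    have h0 := hX.orthonormal ω ω'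
    rw [hXμ ω, hXμ ω', ← e, classInner_smul_left, classInner_smul_right, if_neg hne,
      classInner_self_irr ⟨μ ω, hμ ω⟩] at h0
    rcases hδ ω with a | a <;> rcases hδ ω' with c | c <;> simp [a, c] at h0
  have horth : ∀ θ : L → ℂ, Cfsg.IsClassFunction L θ → ∀ φ ψ : ↥(W₁ ⊔ W₂) →* ℂˣ, IsP φ → IsQ ψ →
      Cfsg.classInner (fun u : ↥(W₁ ⊔ W₂) => θ u) (lin (φ * ψ) - lin ψ) =
        Cfsg.classInner θ (X (φ * ψ)) - Cfsg.classInner θ (X ψ) := by
    intro θ hθ φ ψ hφ hψ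
    rw [← frobenius_reciprocity' _ _ hθ, h.indFun_diff hX
      (fun w hw => by rw [MonoidHom.mul_apply, hφ w hw, one_mul]), classInner_sub_right]
  have hXcl : ∀ ω, Cfsg.IsClassFunction L (X ω) := fun ω =>
    Isometry.Inner.gen_classFun (Isometry.Inner.gen_of_signed (hX.irr_or_neg ω))
  have hval : ∀ ω, ∀ w : ↥(W₁ ⊔ W₂), (w : L) ∉ W₂ → X ω w = (ω w : ℂ) := by
    intro ω w hw
    refine sub_eq_zero.1 (h.eq_zero_of_orthogonal_diff
      (fun u : ↥(W₁ ⊔ W₂) => X ω u - (ω u : ℂ)) (fun φ ψ hφ hψ => ?_) hw)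
    rw [show (fun u : ↥(W₁ ⊔ W₂) => X ω u - (ω u : ℂ)) =
      (fun u : ↥(W₁ ⊔ W₂) => X ω u) - lin ω from rfl, classInner_sub_left,
      horth _ (hXcl ω) φ ψ hφ hψ, classInner_sub_right]
    simp only [hX.orthonormal, classInner_lin]
    ring
  refine ⟨μ, δ, hinj, hμ, hδ, fun ω ω' hω => ?_, fun ω w hw => ?_, fun θ hθ hne w hw => ?_,
    fun ω => ?_⟩
  · have hd := h.indFun_diff hX hω
    have e1 : X ω 1 = X ω' 1 := by
      have h1 := congrFun hd 1
      rw [indFun_one, Pi.sub_apply] at h1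
      simp only [lin, Pi.sub_apply, map_one, sub_self, mul_zero] at h1
      exact sub_eq_zero.1 h1.symm
    have hee : δ ω = δ ω' := by
      obtain ⟨d, hd0, hd1⟩ := exists_degree_pos ⟨μ ω, hμ ω⟩
      obtain ⟨d', hd0', hd1'⟩ := exists_degree_pos ⟨μ ω', hμ ω'⟩
      rw [hXμ ω, hXμ ω', Pi.smul_apply, Pi.smul_apply, smul_eq_mul, smul_eq_mul] at e1
      change μ ω 1 = (d : ℂ) at hd1
      change μ ω' 1 = (d' : ℂ) at hd1'
      rw [hd1, hd1'] at e1
      rcases hδ ω with a | a <;> rcases hδ ω' with c | c <;> simp only [a, c] at e1 ⊢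
      · exfalso
        have e2 : ((d + d' : ℕ) : ℂ) = 0 := by push_cast; linear_combination e1
        have e3 : d + d' = 0 := by exact_mod_cast e2
        omega
      · exfalso
        have e2 : ((d + d' : ℕ) : ℂ) = 0 := by push_cast; linear_combination -e1
        have e3 : d + d' = 0 := by exact_mod_cast e2
        omega
    refine ⟨hee, ?_⟩
    rw [hd, smul_sub, hXμ ω, hXμ ω', hee]
  · show δ ω • X ω w = _
    rw [smul_eq_mul, hval ω w hw]
  · refine h.eq_zero_of_orthogonal_diff (fun u : ↥(W₁ ⊔ W₂) => θ u) (fun φ ψ hφ hψ => ?_) hw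
    have z : ∀ η, Cfsg.classInner θ (X η) = 0 := fun η => by
      rw [hXμ η, classInner_smul_right, Isometry.Inner.classInner_irr_eq hθ (hμ η),
        if_neg (hne η), mul_zero]
    rw [horth θ (isClassFunction_irr ⟨θ, hθ⟩) φ ψ hφ hψ, z, z, sub_self]
  · set D : W₁ → ℂ := (fun a : W₁ => X ω a) -
      fun a : W₁ => ((ω.comp (Subgroup.inclusion le_sup_left)) a : ℂ) with hD
    have hgen : Cfsg.IsGeneralizedCharacter W₁ D := by
      refine Isometry.Inner.gen_sub ?_ (Isometry.Inner.gen_of_isCharacter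
        (Cfsg.Agent.Lib.Induced.Character.isCharacter_hom _))
      obtain ⟨a, b, ha, hb, e⟩ := Isometry.Inner.gen_of_signed (hX.irr_or_neg ω)
      exact ⟨_, _, isCharacter_comp W₁.subtype ha, isCharacter_comp W₁.subtype hb,
        funext fun g => congrFun e (g : L)⟩
    haveI := Fintype.ofFinite W₁
    obtain ⟨n, hn⟩ := Isometry.Inner.classInner_gen_int hgen
      (Isometry.Inner.gen_of_irr (oneChar W₁).2)
    have hsum : ∀ a : W₁, a ≠ 1 → D a * conj ((oneChar W₁ : W₁ → ℂ) a) = 0 := by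
      intro a ha
      have hw : (a : L) ∉ W₂ := fun hm => ha (Subtype.ext (eq_one_of_mem hW a.2 hm))
      have hv : X ω (a : L) = (ω (Subgroup.inclusion le_sup_left a) : ℂ) :=
        hval ω (Subgroup.inclusion le_sup_left a) hw
      simp [hD, hv]
    rw [Cfsg.classInner, Finset.sum_eq_single (1 : W₁) (fun a _ ha => hsum a ha) (by simp),
      oneChar_apply, map_one, mul_one, inv_mul_eq_iff_eq_mul₀ natCard_ne_zero] at hn
    simp only [hD, Pi.sub_apply, map_one, Units.val_one, OneMemClass.coe_one] at hn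
    rcases hδ ω with a | a
    · refine ⟨n, ?_⟩
      simp only [hμdef, a, one_smul]
      linear_combination hn
    · refine ⟨-n, ?_⟩
      simp only [hμdef, a, neg_smul, one_smul, Pi.neg_apply, Int.cast_neg]
      linear_combination -hn

end IsPLike

end Cfsg.Agent.Lib.CyclicTI
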