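import Mathlib

/-!
# Integer tuples in the star configuration

Four lines `{p,a,b}`, `{p,c,d}`, `{p,e,f}`, `{a,c,e}` admit no four signed triples meeting the lines
in the identity pattern and each other in one.
-/

set_option autoImplicit false

namespace Cfsg.Agent.Lib.CyclicTI.Star

/-- Seven coordinates. -/
structure Tup where
  P : ℤ
  A : ℤ
  B : ℤ
  C : ℤ
  D : ℤ
  E : ℤ
  F : ℤ

/-- Inner product of coordinates. -/
def ip (x y : Tup) : ℤ :=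
  x.P * y.P + x.A * y.A + x.B * y.B + x.C * y.C + x.D * y.D + x.E * y.E + x.F * y.F

/-- The incidence with the four lines and the bounds on one tuple. -/
structure Row (x : Tup) (t₁ t₂ t₃ t₄ : ℤ) : Prop where
  hP : -1 ≤ x.P ∧ x.P ≤ 1
  hA : -1 ≤ x.A ∧ x.A ≤ 1
  hC : -1 ≤ x.C ∧ x.C ≤ 1
  hE : -1 ≤ x.E ∧ x.E ≤ 1
  l₁ : x.P + x.A + x.B = t₁
  l₂ : x.P + x.C + x.D = t₂
  l₃ : x.P + x.E + x.F = t₃
  l₄ : x.A + x.C + x.E = t₄
  norm : ip x x ≤ 3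

/-- Two triples of inner product one: what is left outside the seven coordinates is small. -/
def Compat (x y : Tup) : Prop :=
  1 - ip x y ≤ 3 - ip x x ∧ ip x y - 1 ≤ 3 - ip x x ∧
    1 - ip x y ≤ 3 - ip y y ∧ ip x y - 1 ≤ 3 - ip y y

theorem leg_cases {x : Tup} (h : Row x 1 0 0 0) :
    x = ⟨0, 0, 1, 0, 0, 0, 0⟩ ∨ x = ⟨0, 1, 0, -1, 1, 0, 0⟩ ∨ x = ⟨0, 1, 0, 0, 0, -1, 1⟩ ∨
      x = ⟨1, 0, 0, 0, -1, 0, -1⟩ := by
  obtain ⟨P, A, B, C, D, E, F⟩ := x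
  obtain ⟨hP, hA, hC, hE, l₁, l₂, l₃, l₄, hn⟩ := h
  simp only [ip] at *
  obtain rfl : B = 1 - P - A := by omega
  obtain rfl : D = -P - C := by omega
  obtain rfl : F = -P - E := by omega
  obtain rfl : E = -A - C := by omega
  obtain ⟨hP1, hP2⟩ := hP
  obtain ⟨hA1, hA2⟩ := hA
  obtain ⟨hC1, hC2⟩ := hC
  interval_cases P <;> interval_cases A <;> interval_cases C <;> simp_all

theorem transversal_cases {x : Tup} (h : Row x 0 0 0 1) :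
    x = ⟨0, 1, -1, 0, 0, 0, 0⟩ ∨ x = ⟨0, 0, 0, 1, -1, 0, 0⟩ ∨ x = ⟨0, 0, 0, 0, 0, 1, -1⟩ := by
  obtain ⟨P, A, B, C, D, E, F⟩ := x
  obtain ⟨hP, hA, hC, hE, l₁, l₂, l₃, l₄, hn⟩ := h
  simp only [ip] at *
  obtain rfl : B = -P - A := by omega
  obtain rfl : D = -P - C := by omega
  obtain rfl : F = -P - E := by omega
  obtain rfl : E = 1 - A - C := by omega
  obtain ⟨hP1, hP2⟩ := hP
  obtain ⟨hA1, hA2⟩ := hA
  obtain ⟨hC1, hC2⟩ := hC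
  interval_cases P <;> interval_cases A <;> interval_cases C <;> simp_all

/-- The permutation exchanging the first two legs. -/
def swap₁₂ (x : Tup) : Tup := ⟨x.P, x.C, x.D, x.A, x.B, x.E, x.F⟩

/-- The permutation exchanging the first and the last leg. -/
def swap₁₃ (x : Tup) : Tup := ⟨x.P, x.E, x.F, x.C, x.D, x.A, x.B⟩

theorem no_star (x₁ x₂ x₃ x₄ : Tup) (h₁ : Row x₁ 1 0 0 0) (h₂ : Row x₂ 0 1 0 0)
    (h₃ : Row x₃ 0 0 1 0) (h₄ : Row x₄ 0 0 0 1) (c₁₂ : Compat x₁ x₂) (c₁₃ : Compat x₁ x₃)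
    (c₂₃ : Compat x₂ x₃) (c₁₄ : Compat x₁ x₄) (c₂₄ : Compat x₂ x₄) (c₃₄ : Compat x₃ x₄) :
    False := by
  have e₂ : Row (swap₁₂ x₂) 1 0 0 0 :=
    ⟨h₂.hP, h₂.hC, h₂.hA, h₂.hE, h₂.l₂, h₂.l₁, h₂.l₃, by simp only [swap₁₂]; linarith [h₂.l₄],
      by have := h₂.norm; simp only [ip, swap₁₂] at *; linarith⟩
  have e₃ : Row (swap₁₃ x₃) 1 0 0 0 :=
    ⟨h₃.hP, h₃.hE, h₃.hC, h₃.hA, h₃.l₃, h₃.l₂, h₃.l₁, by simp only [swap₁₃]; linarith [h₃.l₄],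
      by have := h₃.norm; simp only [ip, swap₁₃] at *; linarith⟩
  obtain ⟨P₂, A₂, B₂, C₂, D₂, E₂, F₂⟩ := x₂
  obtain ⟨P₃, A₃, B₃, C₃, D₃, E₃, F₃⟩ := x₃
  simp only [swap₁₂] at e₂
  simp only [swap₁₃] at e₃
  rcases leg_cases h₁ with rfl | rfl | rfl | rfl <;>
    rcases leg_cases e₂ with h | h | h | h <;>
      (simp only [Tup.mk.injEq] at h; obtain ⟨rfl, rfl, rfl, rfl, rfl, rfl, rfl⟩ := h) <;>
      simp [Compat, ip] at c₁₂ <;>
        rcases leg_cases e₃ with h | h | h | h <;>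
          (simp only [Tup.mk.injEq] at h; obtain ⟨rfl, rfl, rfl, rfl, rfl, rfl, rfl⟩ := h) <;>
          simp [Compat, ip] at c₁₃ c₂₃ <;>
            rcases transversal_cases h₄ with rfl | rfl | rfl <;>
              simp [Compat, ip] at c₁₄ c₂₄ c₃₄

end Cfsg.Agent.Lib.CyclicTI.Star
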